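import Groth.Agent.AGFQuot23.ParabolicFun
import Groth.Agent.AbSchLib.ConnectedFibres
import Groth.Prelude.Def_Red2

/-!
# Images of Borel and parabolic subgroups under surjective homomorphisms
-/

set_option autoImplicit false
set_option backward.isDefEq.respectTransparency false
set_option backward.isDefEq.respectTransparency.types false
set_option linter.style.haveILetI false
set_option maxHeartbeats 1000000

universe u

open CategoryTheory CategoryTheory.Limits MonoidalCategory CartesianMonoidalCategory MonObj GrpObj AlgebraicGeometry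

namespace Groth.Agent.AGFImage11

open Groth.Agent.AGFQuot23

variable {k : Type u} [Field k]

theorem isMonHom_of_comp {A B C : Over (Spec (CommRingCat.of k))} [GrpObj A] [GrpObj B] [GrpObj C]
    (p : A ⟶ B) (i : B ⟶ C) [Mono i] [IsMonHom i] (h : IsMonHom (p ≫ i)) : IsMonHom p where
  one_hom := by rw [← cancel_mono i, Category.assoc, IsMonHom.one_hom (p ≫ i), IsMonHom.one_hom i]
  mul_hom := by
    rw [← cancel_mono i, Category.assoc, IsMonHom.mul_hom (p ≫ i), Category.assoc, IsMonHom.mul_hom i,
      tensorHom_comp_tensorHom_assoc]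

/-- A reduced closed subscheme dominated by a smooth group through a homomorphism is smooth. -/
theorem smooth_of_surjective {E G H : Over (Spec (CommRingCat.of k))} [GrpObj E] [GrpObj G] [GrpObj H]
    [Smooth E.hom] [QuasiCompact E.hom] [LocallyOfFiniteType G.hom] [QuasiCompact G.hom]
    (i : H ⟶ G) [IsClosedImmersion i.left] [IsReduced H.left] (f : E ⟶ G) [IsMonHom f]
    (p : E ⟶ H) [Surjective p.left] (hp : p ≫ i = f) : Smooth H.hom := by
  obtain ⟨M, _, iM, g, -, -, hcl, hg, hs, -, hsm, -, -⟩ := AlgGrpLib.ImageSubgroup.exists_image f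
  haveI := hcl; haveI := hs; haveI := hsm
  haveI : IsReduced M.left := AbSchLib.isReduced_of_smooth M.hom
  have h1 : Set.range f.left = Set.range i.left := by
    rw [← hp, Over.comp_left]
    ext x
    constructor
    · rintro ⟨y, rfl⟩; exact ⟨p.left y, rfl⟩
    · rintro ⟨y, rfl⟩
      obtain ⟨z, rfl⟩ := p.left.surjective y
      exact ⟨z, rfl⟩
  have h2 : Set.range f.left = Set.range iM.left := by
    rw [← hg, Over.comp_left]
    ext x
    constructor
    · rintro ⟨y, rfl⟩; exact ⟨g.left y, rfl⟩
    · rintro ⟨y, rfl⟩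
      obtain ⟨z, rfl⟩ := g.left.surjective y
      exact ⟨z, rfl⟩
  obtain ⟨a, ha⟩ := RedSepLib.exists_lift_of_range_subset i.left iM.left (h1.symm.trans h2).le
  obtain ⟨b, hb⟩ := RedSepLib.exists_lift_of_range_subset iM.left i.left (h2.symm.trans h1).le
  haveI : IsIso a := ⟨b, by rw [← cancel_mono i.left, Category.assoc, hb, ha, Category.id_comp],
    by rw [← cancel_mono iM.left, Category.assoc, ha, hb, Category.id_comp]⟩
  have : H.hom = a ≫ M.hom := by rw [← Over.w iM, ← Category.assoc, ha, Over.w]
  rw [this]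
  infer_instance

section AlgClosed

variable [IsAlgClosed k]
variable {G Q : Over (Spec (CommRingCat.of k))} [GrpObj G] [GrpObj Q] [IsAffine G.left] [Smooth G.hom]
  [ConnectedSpace G.left] [IsAffine Q.left] [Smooth Q.hom]

/-- The image of a Borel subgroup is a Borel subgroup. -/
theorem isBorelOver_image (q : G ⟶ Q) [IsMonHom q] [Surjective q.left]
    {B : Over (Spec (CommRingCat.of k))} [GrpObj B] {iB : B ⟶ G} (hB : Red.IsBorelOver k iB)
    {M : Over (Spec (CommRingCat.of k))} [GrpObj M] (iM : M ⟶ Q) [IsMonHom iM] (hclM : IsClosedImmersion iM.left)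
    [Smooth M.hom] (p : B ⟶ M) [Surjective p.left] (hpM : p ≫ iM = iB ≫ q) :
    Red.IsBorelOver k iM := by
  haveI := hclM
  haveI : QuasiCompact G.hom := (quasiCompact_iff_compactSpace G.hom).2 inferInstance
  haveI : QuasiCompact Q.hom := (quasiCompact_iff_compactSpace Q.hom).2 inferInstance
  obtain ⟨hi, hcl, hsm, hconn, hsolv, -⟩ := id hB
  haveI := hi; haveI := hcl; haveI := hsm; haveI := hconn
  haveI : QuasiCompact B.hom := by rw [← Over.w iB]; infer_instance
  haveI : QuasiCompact M.hom := by rw [← Over.w iM]; infer_instance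
  haveI : Mono iB := Over.mono_of_mono_left _
  haveI : Mono iM := Over.mono_of_mono_left _
  haveI : IsMonHom (p ≫ iM) := by rw [hpM]; infer_instance
  haveI : IsMonHom p := isMonHom_of_comp p iM inferInstance
  haveI : ConnectedSpace M.left := p.left.surjective.connectedSpace p.left.continuous
  haveI : Group.IsSolvable (𝟙_ (Over (Spec (CommRingCat.of k))) ⟶ B) := by
    obtain ⟨n, hn⟩ := hsolv
    exact ⟨⟨n, hn _⟩⟩
  haveI : Group.IsSolvable (𝟙_ (Over (Spec (CommRingCat.of k))) ⟶ M) :=
    solvable_of_surjective (f := MonoidHom.mk' (fun b => b ≫ p) fun b b' => MonObj.mul_comp b b' p)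
      fun m => exists_ratPoint_lift p m
  have hsolvM := isSolvableGrp_of_points M
  obtain ⟨X, a, o, -, hLX, -, hfl, hs, hpb⟩ := AlgGrpLib.HomogQuotProj.exists_quotient_projMono G B iB
  haveI := isProper_of_isBorelOver hB ⟨hLX, hfl, hs, hpb⟩
  obtain ⟨Y, c, o', ⟨n, m, hm, hm'⟩, hLY, hqY, hflY, hsY, hpbY⟩ :=
    AlgGrpLib.HomogQuotProj.exists_quotient_projMono Q M iM
  haveI := hLY; haveI := hm
  obtain ⟨f, ⟨-, hf⟩, -⟩ := existsUnique_equivariant a o hpb (isFppfCov_orbitMap a o hs hfl) (restrictAction c q) o'
    (fun W h => by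
      show lift (h ≫ iB) _ ≫ (q ▷ Y) ≫ c.act = _
      rw [lift_whiskerRight_assoc, ← comp_orbitMap, ← one_comp_orbitMap c o' W]
      have := congrArg (fun t => lift (1 : W ⟶ Q) (h ≫ p) ≫ t) hpbY.w
      rw [← Category.assoc, ← Category.assoc, lift_fst, RedQuotLib.act_eq, lift_fst, lift_snd, _root_.one_mul,
        Category.assoc h p iM, hpM, ← Category.assoc h iB q] at this
      exact this.symm)
  have horb : (restrictAction c q).orbitMap o' = q ≫ c.orbitMap o' := by
    rw [comp_orbitMap]
    show lift _ _ ≫ (q ▷ Y) ≫ c.act = _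
    rw [lift_whiskerRight_assoc, Category.id_comp]
  haveI : Surjective (q.left ≫ (c.orbitMap o').left) := inferInstance
  haveI : Surjective ((a.orbitMap o).left ≫ f.left) := by
    rw [← Over.comp_left, hf, horb, Over.comp_left]; infer_instance
  haveI : Surjective f.left := Surjective.of_comp (a.orbitMap o).left f.left
  haveI : UniversallyClosed (f.left ≫ Y.hom) := by rw [Over.w]; infer_instance
  haveI : UniversallyClosed Y.hom := UniversallyClosed.of_comp_surjective f.left Y.hom
  haveI := RelVALib.isProper_toBase n (Spec (CommRingCat.of k))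
  haveI : IsSeparated Y.hom := by rw [← hm']; infer_instance
  haveI : IsProper Y.hom := {}
  exact isBorelOver_of_isProper iM hclM hsolvM Y c o' ⟨hLY, hflY, hsY, hpbY⟩ inferInstance

/-- The image of a parabolic subgroup is a parabolic subgroup. -/
theorem isParabolicOver_image (q : G ⟶ Q) [IsMonHom q] [Surjective q.left]
    {P : Over (Spec (CommRingCat.of k))} [GrpObj P] {iP : P ⟶ G} (hP : Red.IsParabolicOver k iP)
    {P' : Over (Spec (CommRingCat.of k))} [GrpObj P'] (iP' : P' ⟶ Q) [IsMonHom iP'] (hcl : IsClosedImmersion iP'.left)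
    [Smooth P'.hom] (p : P ⟶ P') (hp : p ≫ iP' = iP ≫ q) : Red.IsParabolicOver k iP' := by
  haveI := hcl
  obtain ⟨hi, hclP, hsmP, B, _, b, hB⟩ := hP
  haveI := hi
  obtain ⟨hbi, hclB, hsmB, -⟩ := id hB
  haveI := hbi; haveI := hclB; haveI := hsmB
  haveI : QuasiCompact Q.hom := (quasiCompact_iff_compactSpace Q.hom).2 inferInstance
  haveI : QuasiCompact G.hom := (quasiCompact_iff_compactSpace G.hom).2 inferInstance
  haveI : QuasiCompact P'.hom := by rw [← Over.w iP']; infer_instance
  haveI : QuasiCompact B.hom := by rw [← Over.w (b ≫ iP)]; infer_instance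
  haveI : Mono iP' := Over.mono_of_mono_left _
  have e : (b ≫ p) ≫ iP' = (b ≫ iP) ≫ q := by rw [Category.assoc, hp, Category.assoc]
  haveI : IsMonHom ((b ≫ p) ≫ iP') := by rw [e]; infer_instance
  haveI : IsMonHom (b ≫ p) := isMonHom_of_comp _ iP' inferInstance
  obtain ⟨M, _, iM, g, hiM, -, hclM, hgM, hsg, -, hsmM, -, -⟩ := AlgGrpLib.ImageSubgroup.exists_image (b ≫ p)
  haveI := hiM; haveI := hclM; haveI := hsg; haveI := hsmM
  refine ⟨inferInstance, hcl, inferInstance, M, inferInstance, iM, ?_⟩
  haveI : IsClosedImmersion (iM ≫ iP').left := by rw [Over.comp_left]; infer_instance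
  exact isBorelOver_image q hB (iM ≫ iP') inferInstance g (by rw [← Category.assoc, hgM, e])

end AlgClosed

section Field

variable {G Q : Over (Spec (CommRingCat.of k))} [GrpObj G] [GrpObj Q]

/-- Base change of a connected group to a geometric point stays connected. -/
theorem connectedSpace_pullback [ConnectedSpace G.left] (s : (Spec (CommRingCat.of k) : Scheme.{u})) :
    ConnectedSpace ((Over.pullback (Red.geomPt s)).obj G).left := by
  haveI : GeometricallyConnected G.hom :=
    AbSchLib.geometricallyConnected_of_section G.hom η[G].left (Over.w η[G]) fun t => by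
      have hsurj : Function.Surjective (G.hom.fiberι t) := fun a => by
        have ha : a ∈ Set.range (G.hom.fiberι t) := by
          rw [Scheme.Hom.range_fiberι]
          exact Subsingleton.elim (α := PrimeSpectrum k) _ _
        exact ha
      let e := (G.hom.fiberι t).isEmbedding.toHomeomorphOfSurjective hsurj
      exact e.symm.surjective.connectedSpace e.symm.continuous
  change ConnectedSpace ↥(pullback G.hom (Red.geomPt s))
  infer_instance

theorem surjective_map (s : (Spec (CommRingCat.of k) : Scheme.{u})) (q : G ⟶ Q) [Surjective q.left] :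
    Surjective ((Over.pullback (Red.geomPt s)).map q).left :=
  MorphismProperty.overPullbackMap (P := @Surjective) (Red.geomPt s) q ‹_›

theorem isClosedImmersion_map (s : (Spec (CommRingCat.of k) : Scheme.{u})) (q : G ⟶ Q) [IsClosedImmersion q.left] :
    IsClosedImmersion ((Over.pullback (Red.geomPt s)).map q).left :=
  MorphismProperty.overPullbackMap (P := @IsClosedImmersion) (Red.geomPt s) q ‹_›

theorem flat_of_field {T : Scheme.{u}} (π : T ⟶ Spec (CommRingCat.of k)) : Flat π := inferInstance

end Field

end Groth.Agent.AGFImage11
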