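import Groth.Agent.AGFImage11.BorelImage
import Groth.Agent.AlgGrpLib.UnipotentPowers
import Groth.Agent.SGA3UnitSec.KernelPair
import Mathlib.AlgebraicGeometry.Morphisms.FlatDescent

/-!
# Unipotence of geometric fibres through power maps
-/

set_option autoImplicit false
set_option backward.isDefEq.respectTransparency.types false
set_option linter.style.haveILetI false

universe u

open CategoryTheory CategoryTheory.Limits MonoidalCategory CartesianMonoidalCategory MonObj AlgebraicGeometry

noncomputable section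

namespace Groth.Agent.AGFImage11

open AlgGrpLib

theorem isIso_of_isIso_map {S S' : Scheme.{u}} (p : S' ⟶ S) [Surjective p] [Flat p] [QuasiCompact p] {X Y : Over S}
    (f : X ⟶ Y) [IsIso ((Over.pullback p).map f)] : IsIso f := by
  have h : IsIso f.left := MorphismProperty.of_isPullback_of_descendsAlong (P := MorphismProperty.isomorphisms Scheme.{u})
    (Q := @Surjective ⊓ @Flat ⊓ @QuasiCompact) (SGA3UnitSec.isPullback_map_left p f).flip
    ⟨⟨inferInstance, inferInstance⟩, inferInstance⟩ (inferInstanceAs (IsIso ((Over.forget _).map ((Over.pullback p).map f))))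
  haveI : IsIso f.left := h
  exact (isIso_iff_of_reflects_iso f (Over.forget _)).1 ‹IsIso f.left›

theorem isTrivialGrp_of_bc {S S' : Scheme.{u}} (p : S' ⟶ S) [Surjective p] [Flat p] [QuasiCompact p] {X : Over S}
    (h : Red.IsTrivialGrp ((Over.pullback p).obj X)) : Red.IsTrivialGrp X :=
  MorphismProperty.of_pullback_snd_of_descendsAlong (P := MorphismProperty.isomorphisms Scheme.{u})
    (Q := @Surjective ⊓ @Flat ⊓ @QuasiCompact) (g := p) ⟨⟨inferInstance, inferInstance⟩, inferInstance⟩ h

variable {k : Type u} [Field k]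

instance surjective_geomPt (s : (Spec (CommRingCat.of k) : Scheme.{u})) : Surjective (Red.geomPt s) :=
  ⟨fun _ => ⟨IsLocalRing.closedPoint _, Subsingleton.elim (α := PrimeSpectrum k) _ _⟩⟩

theorem surjective_fieldMap {K : Type u} [Field K] (p : Spec (CommRingCat.of K) ⟶ Spec (CommRingCat.of k)) :
    Surjective p :=
  ⟨fun _ => ⟨IsLocalRing.closedPoint _, Subsingleton.elim (α := PrimeSpectrum k) _ _⟩⟩

theorem natCast_ne_zero_of_map {K : Type u} [Field K] (p : Spec (CommRingCat.of K) ⟶ Spec (CommRingCat.of k)) {l : ℕ}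
    (hl : (l : k) ≠ 0) : (l : K) ≠ 0 := by
  rw [← map_natCast (Spec.preimage p).hom]
  exact (map_ne_zero _).2 hl

theorem exists_prime_ne_zero : ∃ l : ℕ, l.Prime ∧ (l : k) ≠ 0 := by
  obtain ⟨l, hl, hlp⟩ := Nat.exists_infinite_primes (ringChar k + 2)
  refine ⟨l, hlp, fun h => ?_⟩
  rcases Nat.eq_zero_or_pos (ringChar k) with h0 | hpos
  · haveI : CharP k 0 := h0 ▸ ringChar.charP k
    haveI : CharZero k := CharP.charP_to_charZero k
    exact hlp.ne_zero (Nat.cast_eq_zero.1 h)
  · have := (CharP.cast_eq_zero_iff k (ringChar k) l).1 h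
    rcases (Nat.dvd_prime hlp).1 this with h1 | h1
    · exact CharP.ringChar_ne_one h1
    · omega

theorem map_pow_id {S S' : Scheme.{u}} (p : S' ⟶ S) (U : Over S) [GrpObj U] (l : ℕ) :
    (Over.pullback p).map ((𝟙 U : U ⟶ U) ^ l) = (𝟙 (Red.bc p U)) ^ l := by
  rw [show (𝟙 (Red.bc p U)) = (Over.pullback p).map (𝟙 U) from (CategoryTheory.Functor.map_id _ _).symm]
  exact map_pow (Over.pullback p).homMonoidHom (𝟙 U) l

/-- If the geometric fibre has no subtori then the `l`th power is bijective. -/
theorem isIso_pow_of_geom {U : Over (Spec (CommRingCat.of k))} [GrpObj U] [Smooth U.hom] [ConnectedSpace U.left]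
    [IsAffine U.left] {l : ℕ} (hl : (l : k) ≠ 0) (s : (Spec (CommRingCat.of k) : Scheme.{u}))
    (hU : Red.HasNoSubtorus (AlgebraicClosure ((Spec (CommRingCat.of k)).residueField s)) (Red.geomFibre s U)) :
    IsIso ((𝟙 U : U ⟶ U) ^ l) := by
  let F := Over.pullback (Red.geomPt s)
  haveI : Smooth (F.obj U).hom := inferInstanceAs (Smooth (Limits.pullback.snd U.hom (Red.geomPt s)))
  haveI : IsAffine (F.obj U).left := inferInstanceAs (IsAffine (Limits.pullback U.hom (Red.geomPt s)))
  haveI : ConnectedSpace (F.obj U).left := connectedSpace_pullback s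
  haveI : IsIso (F.map ((𝟙 U : U ⟶ U) ^ l)) := by
    rw [map_pow_id]
    exact UnipPow.isIso_pow (H := F.obj U) hU (natCast_ne_zero_of_map (Red.geomPt s) hl)
  exact isIso_of_isIso_map (Red.geomPt s) _

/-- A group with bijective `l`th power has no subtori over any algebraically closed extension. -/
theorem hasNoSubtorus_bc_of_isIso_pow {K : Type u} [Field K] [IsAlgClosed K]
    (p : Spec (CommRingCat.of K) ⟶ Spec (CommRingCat.of k)) {U : Over (Spec (CommRingCat.of k))} [GrpObj U] {l : ℕ}
    (hl : (l : k) ≠ 0) (hl1 : 1 < l) [IsIso ((𝟙 U : U ⟶ U) ^ l)] : Red.HasNoSubtorus K (Red.bc p U) := by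
  haveI : IsIso ((𝟙 (Red.bc p U)) ^ l) := map_pow_id p U l ▸ inferInstance
  haveI : NeZero (l : K) := ⟨natCast_ne_zero_of_map p hl⟩
  intro T _ j _ _ hT
  refine UnipPow.isIso_torus_of_torsion_trivial hT l hl1 fun X x hx => ?_
  rw [← cancel_mono j, MonObj.one_comp, ← cancel_mono ((𝟙 (Red.bc p U)) ^ l), MonObj.comp_pow, MonObj.comp_pow,
    Category.comp_id, Category.comp_id, _root_.one_pow, ← MonObj.pow_comp, hx, MonObj.one_comp]

end Groth.Agent.AGFImage11
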