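import Groth.Agent.AGFImage11.Descent
import Groth.Agent.AGFImage11.GeomUnip
import Groth.Agent.AlgGrpLib.HomFlatRed
import Groth.Agent.SGA3cLib.MonoNhd

/-!
# The geometric radical and unipotent radical over a perfect field
-/

set_option autoImplicit false
set_option backward.isDefEq.respectTransparency.types false
set_option linter.style.haveILetI false
set_option maxHeartbeats 800000

universe u

open CategoryTheory CategoryTheory.Limits MonoidalCategory CartesianMonoidalCategory MonObj AlgebraicGeometry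

noncomputable section

namespace Groth.Agent.AGFImage11

open AlgGrpLib AlgGrpLib.LargestNormal

theorem isSolvableGrp_bc {S T : Scheme.{u}} (p : T ⟶ S) (H : Over S) [GrpObj H] (h : Red.IsSolvableGrp H) :
    Red.IsSolvableGrp (Red.bc p H) := by
  obtain ⟨n, hn⟩ := h
  refine ⟨n, fun X => ?_⟩
  let e : ((Over.map p).obj X ⟶ H) →* (X ⟶ Red.bc p H) :=
    MonoidHom.mk' (SGA3cLib.BCPoints.pt p H X) (SGA3cLib.BCPoints.pt_mul p)
  rw [← map_derivedSeries_eq (f := e) (SGA3cLib.BCPoints.pt p H X).surjective n, hn, Subgroup.map_bot]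

theorem isSolvableGrp_of_bc {S T : Scheme.{u}} (p : T ⟶ S) [Surjective p] [Flat p] [QuasiCompact p] (H : Over S)
    [GrpObj H] (h : Red.IsSolvableGrp (Red.bc p H)) : Red.IsSolvableGrp H := by
  obtain ⟨n, hn⟩ := h
  refine ⟨n, fun X => ?_⟩
  let F := Over.pullback p
  let e : (X ⟶ H) →* (F.obj X ⟶ F.obj H) := F.homMonoidHom
  have hinj : Function.Injective e := fun a b hab => by
    have h1 : pullback.fst X.hom p ≫ a.left = pullback.fst X.hom p ≫ b.left := by
      rw [(SGA3UnitSec.isPullback_map_left p a).w, (SGA3UnitSec.isPullback_map_left p b).w,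
        show (Over.pullback p).map a = (Over.pullback p).map b from hab]
    haveI : Epi (pullback.fst X.hom p) := Flat.epi_of_flat_of_surjective _
    exact Over.OverMorphism.ext ((cancel_epi _).1 h1)
  have h1 := map_derivedSeries_le_derivedSeries (f := e) n
  rw [hn (F.obj X), le_bot_iff, Subgroup.map_eq_bot_iff_of_injective _ hinj] at h1
  exact h1

theorem isKernel_bc {S T : Scheme.{u}} (p : T ⟶ S) {N G Q : Over S} [GrpObj N] [GrpObj G] [GrpObj Q] (i : N ⟶ G)
    (q : G ⟶ Q) [IsMonHom i] [IsMonHom q] (h : AlgGrp.IsKernel i q) :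
    AlgGrp.IsKernel ((Over.pullback p).map i : Red.bc p N ⟶ Red.bc p G) ((Over.pullback p).map q) := by
  haveI : Mono i := kernel_mono h
  haveI : Mono ((Over.pullback p).map i) := by
    haveI : (Over.pullback p).IsRightAdjoint := (Over.mapPullbackAdj p).isRightAdjoint
    infer_instance
  refine isKernel_of_points _ _ ?_ fun X g hg => ?_
  · rw [← Functor.map_comp, kernel_comp h]
    exact map_one (Over.pullback p).homMonoidHom
  · obtain ⟨g₀, rfl⟩ := (SGA3cLib.BCPoints.pt p G X).surjective g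
    rw [← SGA3cLib.BCPoints.pt_comp, ← SGA3cLib.MonoNhd.bc_one p X] at hg
    obtain ⟨n, rfl⟩ := exists_lift_kernel h ((SGA3cLib.BCPoints.pt p Q X).injective hg)
    exact ⟨SGA3cLib.BCPoints.pt p N X n, (SGA3cLib.BCPoints.pt_comp p n i).symm⟩

variable {k : Type u} [Field k]

theorem isIntegralHom_geomPt (s : (Spec (CommRingCat.of k) : Scheme.{u})) : IsIntegralHom (Red.geomPt s) := by
  haveI : Surjective ((Spec (CommRingCat.of k)).fromSpecResidueField s) :=
    ⟨fun z ↦ ⟨IsLocalRing.closedPoint _, Subsingleton.elim (α := PrimeSpectrum k) _ _⟩⟩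
  haveI : Subsingleton ↥(Spec (CommRingCat.of k)) := inferInstanceAs (Subsingleton (PrimeSpectrum k))
  haveI : IsClosedImmersion ((Spec (CommRingCat.of k)).fromSpecResidueField s) :=
    isClosed_singleton_iff_isClosedImmersion.1 Set.subsingleton_of_subsingleton.isClosed
  haveI : IsIntegralHom (Spec.map (CommRingCat.ofHom (algebraMap ((Spec (CommRingCat.of k)).residueField s)
      (AlgebraicClosure ((Spec (CommRingCat.of k)).residueField s))))) :=
    IsIntegralHom.SpecMap_iff.2 fun x => Algebra.IsIntegral.isIntegral x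
  exact inferInstanceAs (IsIntegralHom (_ ≫ _))

variable [PerfectField k]

/-- The largest good subgroup of the base change to an algebraic closure descends. -/
theorem exists_descent {L : Type u} [Field L] [IsAlgClosed L] (p : Spec (CommRingCat.of L) ⟶ Spec (CommRingCat.of k))
    [IsIntegralHom p] {P : GrpProp L}
    (hP : ∀ (τ : Spec (CommRingCat.of L) ⟶ Spec (CommRingCat.of L)) [IsIso τ] (E : Over (Spec (CommRingCat.of L)))
      [GrpObj E] [Smooth E.hom] [ConnectedSpace E.left], P E → P (Red.bc τ E))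
    (G : Over (Spec (CommRingCat.of k))) [GrpObj G] [IsAffine G.left] [Smooth G.hom]
    (H : Good P (Red.bc p G))
    (hmax : ∀ A : Good P (Red.bc p G), ∃ f : A.obj ⟶ H.obj, f ≫ H.emb = A.emb) :
    letI := H.grp
    ∃ (H₀ : Over (Spec (CommRingCat.of k))) (_ : GrpObj H₀) (i₀ : H₀ ⟶ G) (a : H.obj ⟶ Red.bc p H₀),
      IsMonHom i₀ ∧ IsClosedImmersion i₀.left ∧ Smooth H₀.hom ∧ ConnectedSpace H₀.left ∧ AlgGrp.IsNormalHom i₀ ∧
        IsIso a ∧ IsMonHom a ∧ a ≫ (Over.pullback p).map i₀ = H.emb := by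
  obtain ⟨φ, rfl⟩ := Spec.map_surjective p
  letI : Algebra k L := φ.hom.toAlgebra
  haveI : Algebra.IsIntegral k L := by
    have h : φ.hom.IsIntegral := IsIntegralHom.SpecMap_iff.1 (‹IsIntegralHom (Spec.map φ)›)
    exact ⟨fun x => h x⟩
  haveI : IsAlgClosure k L := ⟨inferInstance, Algebra.IsIntegral.isAlgebraic⟩
  haveI : Normal k L := IsAlgClosure.normal k L
  exact exists_descent_largest hP G H hmax

omit [PerfectField k] in
theorem hasNoSubtorus_of_iso {A B : Over (Spec (CommRingCat.of k))} [GrpObj A] [GrpObj B] (a : A ⟶ B) [IsIso a]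
    [IsMonHom a] (h : Red.HasNoSubtorus k A) : Red.HasNoSubtorus k B := by
  intro T _ j _ _ hT
  haveI : IsMonHom (inv a) := inferInstanceAs (IsMonHom (asIso a).inv)
  exact h T (j ≫ inv a) hT

variable (G : Over (Spec (CommRingCat.of k))) [GrpObj G] [IsAffine G.left] [Smooth G.hom]

/-- Over a perfect field the unipotent radical commutes with passage to an algebraic closure. -/
theorem unipotentRadical_geomFibre_largest {U : Over (Spec (CommRingCat.of k))} [GrpObj U] (u : U ⟶ G)
    (hU : Par.IsUnipotentRadical u) (s : (Spec (CommRingCat.of k) : Scheme.{u}))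
    (A : Good UnipP (Red.geomFibre s G)) :
    ∃ f : A.obj ⟶ Red.geomFibre s U, f ≫ (Over.pullback (Red.geomPt s)).map u = A.emb := by
  let L := AlgebraicClosure ((Spec (CommRingCat.of k)).residueField s)
  let p : Spec (CommRingCat.of L) ⟶ Spec (CommRingCat.of k) := Red.geomPt s
  haveI : IsAffine (Red.geomFibre s G).left := inferInstanceAs (IsAffine (pullback G.hom p))
  haveI : Smooth (Red.geomFibre s G).hom := inferInstanceAs (Smooth (pullback.snd G.hom p))
  haveI : IsIntegralHom p := isIntegralHom_geomPt s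
  haveI : Surjective p := surjective_fieldMap p
  obtain ⟨H, hmax⟩ := exists_unipotentRadical (Red.geomFibre s G)
  obtain ⟨f₁, hf₁⟩ := hmax A
  obtain ⟨H₀, _, i₀, a, hi₀, hcl, hsm, hc, hn, ha, ham, hae⟩ := exists_descent p (P := UnipP) (fun τ _ E _ _ _ hE => by
    obtain ⟨hEa, hEs, hEc, hEt⟩ := hE
    haveI := hEa
    haveI : IsIso (pullback.fst E.hom τ) := inferInstance
    obtain ⟨l, hlp, hl⟩ := exists_prime_ne_zero (k := L)
    haveI := UnipPow.isIso_pow hEt hl
    exact ⟨inferInstanceAs (IsAffine (pullback E.hom τ)), inferInstanceAs (Smooth (pullback.snd E.hom τ)),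
      (inv (pullback.fst E.hom τ)).surjective.connectedSpace (inv (pullback.fst E.hom τ)).continuous,
      hasNoSubtorus_bc_of_isIso_pow τ hl hlp.one_lt⟩) G H hmax
  letI := H.grp
  haveI := hi₀; haveI := hcl; haveI := hsm; haveI := hc; haveI := ha; haveI := ham
  haveI : IsAffine H₀.left := isAffine_of_isAffineHom i₀.left
  haveI : QuasiCompact H₀.hom := (quasiCompact_iff_compactSpace H₀.hom).2 inferInstance
  haveI : Smooth (Red.bc p H₀).hom := inferInstanceAs (Smooth (pullback.snd H₀.hom p))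
  haveI : IsAffine (Red.bc p H₀).left := inferInstanceAs (IsAffine (pullback H₀.hom p))
  haveI : ConnectedSpace (Red.bc p H₀).left := connectedSpace_pullback s
  obtain ⟨l, hlp, hl⟩ := exists_prime_ne_zero (k := k)
  haveI : IsIso ((𝟙 H₀ : H₀ ⟶ H₀) ^ l) :=
    isIso_pow_of_geom hl s (hasNoSubtorus_of_iso a H.prop.2.2.2)
  obtain ⟨f₀, hf₀⟩ := hU.2.2.2.2.2.2 H₀ i₀ hcl hn hsm inferInstance fun t =>
    ⟨connectedSpace_pullback t, hasNoSubtorus_bc_of_isIso_pow (Red.geomPt t) hl hlp.one_lt⟩
  refine ⟨f₁ ≫ a ≫ (Over.pullback p).map f₀, ?_⟩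
  rw [Category.assoc, Category.assoc, ← Functor.map_comp, hf₀, hae, hf₁]

/-- Over a perfect field the radical commutes with passage to an algebraic closure. -/
theorem radical_geomFibre_largest {R : Over (Spec (CommRingCat.of k))} [GrpObj R] (r : R ⟶ G)
    (hR : ∀ (R' : Over (Spec (CommRingCat.of k))) [GrpObj R'] (r' : R' ⟶ G) [IsMonHom r'], IsClosedImmersion r'.left →
      Smooth R'.hom → ConnectedSpace R'.left → Red.IsSolvableGrp R' → AlgGrp.IsNormalHom r' →
      ∃ f : R' ⟶ R, f ≫ r = r')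
    (s : (Spec (CommRingCat.of k) : Scheme.{u})) (A : Good SolvP (Red.geomFibre s G)) :
    ∃ f : A.obj ⟶ Red.geomFibre s R, f ≫ (Over.pullback (Red.geomPt s)).map r = A.emb := by
  let L := AlgebraicClosure ((Spec (CommRingCat.of k)).residueField s)
  let p : Spec (CommRingCat.of L) ⟶ Spec (CommRingCat.of k) := Red.geomPt s
  haveI : IsAffine (Red.geomFibre s G).left := inferInstanceAs (IsAffine (pullback G.hom p))
  haveI : Smooth (Red.geomFibre s G).hom := inferInstanceAs (Smooth (pullback.snd G.hom p))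
  haveI : IsIntegralHom p := isIntegralHom_geomPt s
  haveI : Surjective p := surjective_fieldMap p
  obtain ⟨H, hmax⟩ := exists_radical (Red.geomFibre s G)
  obtain ⟨f₁, hf₁⟩ := hmax A
  obtain ⟨H₀, _, i₀, a, hi₀, hcl, hsm, hc, hn, ha, ham, hae⟩ := exists_descent p (P := SolvP) (fun τ _ E _ _ _ hE => by
    obtain ⟨hEa, hEs, hEc, hEt⟩ := hE
    haveI := hEa
    haveI : IsIso (pullback.fst E.hom τ) := inferInstance
    exact ⟨inferInstanceAs (IsAffine (pullback E.hom τ)), inferInstanceAs (Smooth (pullback.snd E.hom τ)),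
      (inv (pullback.fst E.hom τ)).surjective.connectedSpace (inv (pullback.fst E.hom τ)).continuous,
      isSolvableGrp_bc τ E hEt⟩) G H hmax
  letI := H.grp
  haveI := hi₀; haveI := ha; haveI := ham
  have hs₁ : Red.IsSolvableGrp (Red.bc p H₀) := by
    obtain ⟨n, hn⟩ := H.prop.2.2.2
    refine ⟨n, fun X => ?_⟩
    rw [← map_derivedSeries_eq (f := MonoidHom.mk' (fun x : X ⟶ H.obj => x ≫ a) fun x y => MonObj.mul_comp x y a)
      (fun y => ⟨y ≫ inv a, by simp⟩) n, hn, Subgroup.map_bot]
  obtain ⟨f₀, hf₀⟩ := hR H₀ i₀ hcl hsm hc (isSolvableGrp_of_bc p H₀ hs₁) hn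
  refine ⟨f₁ ≫ a ≫ (Over.pullback p).map f₀, ?_⟩
  rw [Category.assoc, Category.assoc, ← Functor.map_comp, hf₀, hae, hf₁]

omit [PerfectField k] in
/-- A smooth quotient of an affine group has connected, affine, smooth geometric fibres. -/
theorem isTrivial_of_good_quotient {L : Type u} [Field L] {P : GrpProp L} (hPa : ExtStable P)
    {E Q : Over (Spec (CommRingCat.of L))} [GrpObj E] [GrpObj Q] [LocallyOfFiniteType E.hom] [QuasiCompact E.hom]
    [LocallyOfFiniteType Q.hom] [QuasiCompact Q.hom] (H : Good P E)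
    (hmax : ∀ A : Good P E, ∃ f : A.obj ⟶ H.obj, f ≫ H.emb = A.emb)
    (q : E ⟶ Q) [IsMonHom q] [Flat q.left] [Surjective q.left] (hk : AlgGrp.IsKernel H.emb q) (B : Good P Q) :
    Red.IsTrivialGrp B.obj := by
  letI := B.grp
  haveI := isIso_unit_of_quotient hPa H hmax Q q hk B
  haveI : IsIso η[B.obj].left := inferInstanceAs (IsIso ((Over.forget _).map η[B.obj]))
  haveI : IsIso (η[B.obj].left ≫ B.obj.hom) := by rw [Over.w]; exact inferInstanceAs (IsIso (𝟙 _))
  exact IsIso.of_isIso_comp_left η[B.obj].left B.obj.hom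

end Groth.Agent.AGFImage11
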