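import Groth.Agent.AlgGrpLib.NoTorusScheme
import Groth.Agent.AlgGrpLib.GrassAction
import Groth.Agent.S3267
import Groth.Agent.S5366

/-!
# Groups without subtori are solvable (as in `AGFQuot23.UnipRadical`, with fewer dependencies)
-/

set_option autoImplicit false
set_option backward.isDefEq.respectTransparency false
set_option linter.style.haveILetI false

universe u

open CategoryTheory CategoryTheory.Limits MonoidalCategory CartesianMonoidalCategory MonObj GrpObj AlgebraicGeometry
open HopfRep
open scoped TensorProduct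

namespace Groth.Agent.AGFImage11

variable {k : Type u} [Field k]

theorem isTrigonalizable_of_isUnipotent {A : Type u} [CommRing A] [HopfAlgebra k A] (h : IsUnipotent k A) :
    IsTrigonalizable k A := by
  intro V _ _ _ hfin hs
  haveI := hs.1
  obtain ⟨v, hv, hv0⟩ := Submodule.exists_mem_ne_zero_of_ne_bot (h V hfin inferInstance)
  have hsub : IsSubcomod (k := k) (A := A) (Submodule.span k {v}) := by
    intro y hy
    obtain ⟨c, rfl⟩ := Submodule.mem_span_singleton.1 hy
    refine ⟨c • ((⟨v, Submodule.mem_span_singleton_self v⟩ : Submodule.span k {v}) ⊗ₜ (1 : A)), ?_⟩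
    rw [map_smul, map_smul, LinearMap.rTensor_tmul, show Comod.coact (k := k) (A := A) v = v ⊗ₜ[k] (1 : A) from hv]
    rfl
  rcases hs.2 _ hsub with h0 | h0
  · exact absurd ((Submodule.span_singleton_eq_bot).1 h0) hv0
  · rw [← finrank_top k V, ← h0, finrank_span_singleton hv0]

variable [IsAlgClosed k]
theorem isSolvableGrp_of_hasNoSubtorus (U : Over (Spec (CommRingCat.of k))) [GrpObj U] [IsAffine U.left]
    [Smooth U.hom] [ConnectedSpace U.left] (h : Red.HasNoSubtorus k U) : Red.IsSolvableGrp U := by
  haveI : QuasiCompact U.hom := (quasiCompact_iff_compactSpace U.hom).2 inferInstance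
  obtain ⟨A, _, _, e, _, _⟩ := HopfQuot.exists_spec (k := k) U
  haveI : IsIso e.left := inferInstanceAs (IsIso ((Over.forget _).map e))
  haveI : IsMonHom (CategoryTheory.inv e) := inferInstanceAs (IsMonHom (asIso e).inv)
  haveI : LocallyOfFiniteType (HopfQuot.spec (k := k) A).hom := by rw [← Over.w e]; infer_instance
  haveI : Algebra.FiniteType k A :=
    RingHom.finiteType_algebraMap.1 ((HasRingHomProperty.Spec_iff (P := @LocallyOfFiniteType)
      (φ := CommRingCat.ofHom (algebraMap k A))).1 ‹LocallyOfFiniteType (HopfQuot.spec (k := k) A).hom›)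
  haveI : Group.IsSolvable (HopfQuot.Pt k A k) :=
    S3267.result k A (isTrigonalizable_of_isUnipotent (AlgGrpLib.NoTorus.isUnipotent_of_hasNoSubtorus h e))
  let K₀ : CommAlgCat.{u} k := CommAlgCat.of k k
  let f : (GrassLib.pt K₀ ⟶ U) →* HopfQuot.Pt k A K₀ :=
    MonoidHom.mk' (fun g => GrpQLib.ptOf (g ≫ CategoryTheory.inv e)) fun g h => by
      rw [MonObj.mul_comp, AlgGrpLib.GrassAction.ptOf_mul]
  haveI : Group.IsSolvable (GrassLib.pt K₀ ⟶ U) := solvable_of_solvable_injective (f := f) fun g h hgh => by
    exact (cancel_mono (CategoryTheory.inv e)).1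
      ((HopfQuot.ptSpec (k := k) (A := A) (T := K₀)).symm.injective hgh)
  obtain ⟨n, hn⟩ := (inferInstance : Group.IsSolvable (GrassLib.pt K₀ ⟶ U)).solvable
  exact ⟨n, ((S5366.result k U k n).1).2 hn⟩

end Groth.Agent.AGFImage11
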