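import Groth.Agent.AGFImage11.Radical
import Groth.Agent.AGFImage11.GeomUnip
import Groth.Agent.HMTor29.MaxTorus
import Groth.Agent.SGA3cLib.GrpBC

/-!
# Commutative normal subgroups of reductive groups are tori
-/

set_option autoImplicit false
set_option backward.isDefEq.respectTransparency.types false
set_option linter.style.haveILetI false

universe u

open CategoryTheory CategoryTheory.Limits MonoidalCategory CartesianMonoidalCategory MonObj AlgebraicGeometry

noncomputable section

namespace Groth.Agent.AGFImage11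

open AlgGrpLib

theorem isTorus_of_iso {S : Scheme.{u}} {T T' : Over S} [GrpObj T] [GrpObj T'] (e : T' ⟶ T) [IsIso e] [IsMonHom e]
    (hT : Red.IsTorus T) : Red.IsTorus T' := by
  obtain ⟨S', f, h1, h2, h3, h4⟩ := hT
  refine ⟨S', f, h1, h2, h3, fun s' => ?_⟩
  obtain ⟨U, hU, r, ⟨E⟩⟩ := h4 s'
  haveI : IsMonHom (asIso ((Over.pullback (U.ι ≫ f)).map e)).hom :=
    inferInstanceAs (IsMonHom ((Over.pullback (U.ι ≫ f)).map e))
  exact ⟨U, hU, r, ⟨Grp.mkIso' (asIso ((Over.pullback (U.ι ≫ f)).map e)) ≪≫ E⟩⟩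

theorem isTorus_of_bc_field {k : Type u} [Field k] {L : Type u} [Field L]
    (p : Spec (CommRingCat.of L) ⟶ Spec (CommRingCat.of k)) (H : Over (Spec (CommRingCat.of k))) [GrpObj H]
    (h : Red.IsTorus (Red.bc p H)) : Red.IsTorus H := by
  obtain ⟨S', f, hf, hs, hc, hU⟩ := h
  haveI := hf; haveI := hs
  haveI : Surjective p := surjective_fieldMap p
  refine ⟨S', f ≫ p, inferInstance, inferInstance, fun V hV => ?_, fun s' => ?_⟩
  · rcases (V : Set (Spec (CommRingCat.of k))).eq_empty_or_nonempty with he | ⟨x, hx⟩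
    · exact ⟨⊥, by simp, by simp [he]⟩
    · obtain ⟨W, hWc, hW⟩ := hc ⊤ (isAffineOpen_top _)
      refine ⟨W, hWc, ?_⟩
      have hV' : (V : Set (Spec (CommRingCat.of k))) = Set.univ :=
        Set.eq_univ_of_forall fun y => Subsingleton.elim (α := PrimeSpectrum k) x y ▸ hx
      rw [hV', show (f ≫ p).base '' (W : Set S') = p.base '' (f.base '' (W : Set S')) by rw [← Set.image_comp]; rfl, hW]
      simp [p.surjective.range_eq]
  · obtain ⟨U, hsU, r, ⟨E⟩⟩ := hU s'
    refine ⟨U, hsU, r, ?_⟩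
    let α := SGA3cLib.GrpBC.bcCongr p (U.ι ≫ f) (U.ι ≫ f ≫ p) (Category.assoc _ _ _)
    obtain ⟨-, h2⟩ := SGA3cLib.GrpBC.isMonHom_app α H
    let a : Red.bc (U.ι ≫ f ≫ p) H ≅ Red.bc (U.ι ≫ f) (Red.bc p H) := (α.app H).symm
    haveI : IsMonHom a.hom := h2
    exact ⟨Grp.mkIso' a ≪≫ E⟩

variable {k : Type u} [Field k] [IsAlgClosed k]

theorem isSolvableGrp_of_comm {S : Scheme.{u}} (H : Over S) [GrpObj H] [IsCommMonObj H] : Red.IsSolvableGrp H :=
  ⟨1, fun X => by
    rw [show derivedSeries (X ⟶ H) 1 = commutator (X ⟶ H) from derivedSeries_one _, eq_bot_iff, commutator_def,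
      Subgroup.commutator_le]
    intro a _ b _
    rw [Subgroup.mem_bot, commutatorElement_eq_one_iff_mul_comm]
    exact _root_.mul_comm a b⟩

/-- A commutative reductive group is a torus. -/
theorem isTorus_of_comm_reductive {H : Over (Spec (CommRingCat.of k))} [GrpObj H] [IsCommMonObj H]
    (hH : Red.IsReductiveOver k H) : Red.IsTorus H := by
  obtain ⟨ha, hs, hc, hU⟩ := hH
  haveI := ha; haveI := hs; haveI := hc
  obtain ⟨S, _, s, π, hS, hsm, hπm, hsp, hconj⟩ := HMTor29.MaxTorus.exists_complement (isSolvableGrp_of_comm H)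
  haveI := hsm; haveI := hπm
  let r : H ⟶ H := 𝟙 H * (π ≫ s)⁻¹
  have hr : ∀ {T : Over (Spec (CommRingCat.of k))} (x : T ⟶ H), x ≫ r = x * ((x ≫ π) ≫ s)⁻¹ := fun {T} x => by
    simp only [r, MonObj.comp_mul, GrpObj.comp_inv, Category.comp_id, Category.assoc]
  haveI : IsMonHom r := MultTypeAct.isMonHom_of_map_mul r fun {T} x y => by
    rw [hr, hr, hr, MonObj.mul_comp, MonObj.mul_comp, mul_inv, _root_.mul_mul_mul_comm]
  haveI : QuasiCompact H.hom := (quasiCompact_iff_compactSpace H.hom).2 inferInstance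
  obtain ⟨M, _, i, g, hi, hgm, hcl, hg, hgs, hgf, hsmM, -, -⟩ := ImageSubgroup.exists_image r
  haveI := hi; haveI := hgm; haveI := hcl; haveI := hgs; haveI := hgf; haveI := hsmM
  haveI : ConnectedSpace M.left := g.left.surjective.connectedSpace g.left.continuous
  haveI : Mono i := Over.mono_of_mono_left i
  haveI : QuasiCompact g.left := quasiCompact_left g
  haveI : Epi g.left := Flat.epi_of_flat_of_surjective _
  haveI : Epi g := Over.epi_of_epi_left _
  have hiπ : i ≫ π = 1 := by
    rw [← cancel_epi g, ← Category.assoc, hg, MonObj.comp_one]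
    simp only [r, MonObj.mul_comp, GrpObj.inv_comp, Category.id_comp, Category.assoc, hsp, Category.comp_id]
    rw [mul_inv_cancel]
  have hns : Red.HasNoSubtorus k M := fun T _ j _ _ hT => by
    obtain ⟨v, hv⟩ := hconj T hT (j ≫ i)
    refine TorusUnip.isIso_hom_of_mono_one j ?_
    rw [← cancel_mono i, hv, Category.assoc, reassoc_of% hiπ, MonObj.one_comp, MonObj.one_comp, MonObj.comp_one,
      _root_.mul_one, mul_inv_cancel]
  haveI : IsIso M.hom := hU M i hcl hsmM inferInstance (UnipStruct.isNormalHom_of_comm i) hns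
  have hr1 : r = 1 := by
    rw [← hg, show g = 1 from subsingleton_hom_of_isIso _ _, MonObj.one_comp]
  have hps : π ≫ s = 𝟙 H := by
    rw [eq_comm, ← mul_inv_eq_one]
    exact hr1
  haveI : IsIso π := ⟨s, hps, hsp⟩
  exact isTorus_of_iso π hS

end Groth.Agent.AGFImage11
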