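import Groth.Agent.AGFImage11.SolvRadical
import Groth.Agent.VarietyLib.GaloisFibre
import Groth.Agent.SGA3UnitSec.KernelPair

/-!
# Descent of the radical and the unipotent radical along a Galois extension
-/

set_option autoImplicit false
set_option backward.isDefEq.respectTransparency.types false
set_option linter.style.haveILetI false
set_option maxHeartbeats 800000

universe u

open CategoryTheory CategoryTheory.Limits MonoidalCategory CartesianMonoidalCategory MonObj AlgebraicGeometry

noncomputable section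

namespace Groth.Agent.AGFImage11

open AlgGrpLib AlgGrpLib.LargestNormal

theorem range_map_left {S S' : Scheme.{u}} (p : S' ⟶ S) {X Y : Over S} (v : X ⟶ Y) :
    Set.range ((Over.pullback p).map v).left = pullback.fst Y.hom p ⁻¹' Set.range v.left := by
  have h := Scheme.image_preimage_eq_of_isPullback (SGA3UnitSec.isPullback_map_left p v) Set.univ
  rw [Set.preimage_univ, Set.image_univ, Set.image_univ] at h
  exact h

theorem bcCongr_app_fst {S T T' : Scheme.{u}} (g : T ⟶ S) (c : T' ⟶ T) (h : T' ⟶ S) (hh : c ≫ g = h) (X : Over S) :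
    ((SGA3cLib.GrpBC.bcCongr g c h hh).app X).hom.left ≫ pullback.fst X.hom h =
      pullback.fst (Red.bc g X).hom c ≫ pullback.fst X.hom g := by
  subst hh
  simp [SGA3cLib.GrpBC.bcCongr, Over.pullbackComp, Over.mapComp]
  erw [pullback.lift_fst, pullback.lift_fst_assoc]
  simp only [Category.assoc]
  erw [pullback.lift_fst_assoc]
  erw [pullback.lift_fst_assoc]
  rw [Category.id_comp]

/-- The conjugate of a subgroup of a base change by an automorphism of the new base. -/
theorem exists_twist {S T : Scheme.{u}} (p : T ⟶ S) (τ Sσ : T ⟶ T) [IsIso τ] (hτ : τ ≫ p = p) (h5 : τ ≫ Sσ = 𝟙 _)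
    (G : Over S) [GrpObj G] (g : pullback G.hom p ⟶ pullback G.hom p)
    (g3 : g ≫ pullback.fst G.hom p = pullback.fst G.hom p)
    (h3 : g ≫ pullback.snd G.hom p = pullback.snd G.hom p ≫ Sσ)
    {H : Over T} [GrpObj H] (e : H ⟶ Red.bc p G) [IsMonHom e] [IsClosedImmersion e.left] (hH : AlgGrp.IsNormalHom e) :
    ∃ e' : Red.bc τ H ⟶ Red.bc p G, IsMonHom e' ∧ IsClosedImmersion e'.left ∧ AlgGrp.IsNormalHom e' ∧
      e'.left = pullback.fst H.hom τ ≫ e.left ≫ g := by
  let α := SGA3cLib.GrpBC.bcCongr p τ p hτ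
  obtain ⟨hα, -⟩ := SGA3cLib.GrpBC.isMonHom_app α G
  let a : Red.bc τ (Red.bc p G) ≅ Red.bc p G := α.app G
  haveI : IsMonHom a.hom := hα
  let e' : Red.bc τ H ⟶ Red.bc p G := (Over.pullback τ).map e ≫ a.hom
  haveI : IsClosedImmersion ((Over.pullback τ).map e).left :=
    MorphismProperty.overPullbackMap (P := @IsClosedImmersion) τ e ‹_›
  haveI : IsIso a.hom.left := inferInstanceAs (IsIso ((Over.forget _).map a.hom))
  have hn : AlgGrp.IsNormalHom ((Over.pullback τ).map e : Red.bc τ H ⟶ Red.bc τ (Red.bc p G)) := by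
    obtain ⟨z, hz⟩ := (GrpLim26.normal_iff e).1 hH
    exact (GrpLim26.normal_bc_iff τ e).2 ⟨(Over.pullback τ).map z, by rw [← hz]; exact ((Over.pullback τ).map_comp z e).symm⟩
  refine ⟨e', inferInstanceAs (IsMonHom ((Over.pullback τ).map e ≫ a.hom)), ?_, fun X x n => ?_, ?_⟩
  · show IsClosedImmersion (((Over.pullback τ).map e).left ≫ a.hom.left)
    infer_instance
  · obtain ⟨n', hn'⟩ := hn X (x ≫ a.inv) n
    refine ⟨n', ?_⟩
    have := congrArg (· ≫ a.hom) hn'
    simpa [MonObj.mul_comp, GrpObj.inv_comp, e'] using this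
  · apply pullback.hom_ext
    · have g1 : a.hom.left ≫ pullback.fst G.hom p = pullback.fst (Red.bc p G).hom τ ≫ pullback.fst G.hom p :=
        bcCongr_app_fst p τ p hτ G
      have g2 : ((Over.pullback τ).map e).left ≫ pullback.fst (Red.bc p G).hom τ = pullback.fst H.hom τ ≫ e.left :=
        pullback.lift_fst _ _ _
      exact ((Category.assoc _ _ _).trans ((congrArg (fun z => ((Over.pullback τ).map e).left ≫ z) g1).trans
        ((Category.assoc _ _ _).symm.trans ((congrArg (· ≫ pullback.fst G.hom p) g2).trans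
          ((Category.assoc _ _ _).trans ((congrArg (fun z => pullback.fst H.hom τ ≫ e.left ≫ z) g3).symm.trans
            ((congrArg (fun z => pullback.fst H.hom τ ≫ z) (Category.assoc _ _ _).symm).trans
              (Category.assoc _ _ _).symm)))))))
    · have h1 : e.left ≫ pullback.snd G.hom p = H.hom := Over.w e
      have h4 : e.left ≫ g ≫ pullback.snd G.hom p = H.hom ≫ Sσ :=
        ((congrArg (fun z => e.left ≫ z) h3).trans (Category.assoc _ _ _).symm).trans (congrArg (· ≫ Sσ) h1)
      rw [Category.assoc, Category.assoc]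
      refine (Over.w e').trans (Eq.trans ?_ (congrArg (fun z => pullback.fst H.hom τ ≫ z) h4).symm)
      show pullback.snd H.hom τ = pullback.fst H.hom τ ≫ H.hom ≫ Sσ
      rw [← Category.assoc, pullback.condition, Category.assoc, h5, Category.comp_id]

variable {k : Type u} [Field k] {L : Type u} [Field L]

/-- A normal subgroup of a base change whose underlying set comes from the base descends. -/
theorem exists_descent_subgroup' (p : Spec (CommRingCat.of L) ⟶ Spec (CommRingCat.of k))
    [IsIntegralHom p]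
    (hred : ∀ (X : Over (Spec (CommRingCat.of k))) [IsReduced X.left] [LocallyOfFiniteType X.hom], IsReduced (pullback X.hom p)) (G : Over (Spec (CommRingCat.of k))) [GrpObj G] [IsAffine G.left] [Smooth G.hom]
    {H : Over (Spec (CommRingCat.of L))} [GrpObj H] [Smooth H.hom] [ConnectedSpace H.left] (e : H ⟶ Red.bc p G)
    [he : IsMonHom e] [IsClosedImmersion e.left] (hHn : AlgGrp.IsNormalHom e)
    (hdesc : pullback.fst G.hom p ⁻¹' (pullback.fst G.hom p '' Set.range e.left) = Set.range e.left) :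
    ∃ (H₀ : Over (Spec (CommRingCat.of k))) (_ : GrpObj H₀) (i₀ : H₀ ⟶ G) (a : H ⟶ Red.bc p H₀),
      IsMonHom i₀ ∧ IsClosedImmersion i₀.left ∧ Smooth H₀.hom ∧ ConnectedSpace H₀.left ∧ AlgGrp.IsNormalHom i₀ ∧
        IsIso a ∧ IsMonHom a ∧ a ≫ (Over.pullback p).map i₀ = e := by
  let F := Over.pullback p
  haveI : Surjective p := surjective_fieldMap p
  haveI : IsIntegralHom (pullback.fst G.hom p) := MorphismProperty.pullback_fst (P := @IsIntegralHom) _ _ ‹_›
  let Z : Set ↥(pullback G.hom p) := Set.range e.left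
  let C : TopologicalSpace.Closeds G.left :=
    ⟨pullback.fst G.hom p '' Z, (pullback.fst G.hom p).isClosedMap _ e.left.isClosedEmbedding.isClosed_range⟩
  let I := Scheme.IdealSheafData.vanishingIdeal C
  let H₀ : Over (Spec (CommRingCat.of k)) := Over.mk (I.subschemeι ≫ G.hom)
  let i₀ : H₀ ⟶ G := Over.homMk I.subschemeι rfl
  haveI hci : IsClosedImmersion i₀.left := inferInstanceAs (IsClosedImmersion I.subschemeι)
  have hrange : Set.range i₀.left = pullback.fst G.hom p '' Z := by
    change Set.range I.subschemeι = _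
    rw [Scheme.IdealSheafData.range_subschemeι]
    rfl
  haveI : IsReduced H₀.left := (Props12.isReduced_subscheme_vanishingIdeal C : IsReduced I.subscheme)
  haveI : Mono i₀ := Over.mono_of_mono_left i₀
  haveI : IsClosedImmersion (F.map i₀).left := MorphismProperty.overPullbackMap (P := @IsClosedImmersion) p i₀ hci
  haveI : LocallyOfFiniteType H₀.hom := inferInstanceAs (LocallyOfFiniteType (I.subschemeι ≫ G.hom))
  have hr : Set.range (F.map i₀).left = Set.range e.left := by
    rw [range_map_left, hrange]; exact hdesc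
  haveI : IsReduced H.left := AbSchLib.isReduced_of_smooth H.hom
  haveI : IsReduced (F.obj H₀).left := hred H₀
  obtain ⟨a₁, ha₁⟩ := RedSepLib.exists_lift_of_range_subset e.left (F.map i₀).left hr.ge
  obtain ⟨b₁, hb₁⟩ := RedSepLib.exists_lift_of_range_subset (F.map i₀).left e.left hr.le
  let a : H ⟶ F.obj H₀ := Over.homMk a₁ (by rw [← Over.w (F.map i₀), ← Category.assoc, ha₁, Over.w])
  let b : F.obj H₀ ⟶ H := Over.homMk b₁ (by rw [← Over.w e, ← Category.assoc, hb₁, Over.w])
  have ha : a ≫ F.map i₀ = e := Over.OverMorphism.ext ha₁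
  have hb : b ≫ e = F.map i₀ := Over.OverMorphism.ext hb₁
  haveI : Mono e := Over.mono_of_mono_left e
  haveI : Mono (F.map i₀) := Over.mono_of_mono_left _
  haveI : IsIso a := ⟨b, by rw [← cancel_mono e, Category.assoc, hb, ha, Category.id_comp],
    by rw [← cancel_mono (F.map i₀), Category.assoc, ha, hb, Category.id_comp]⟩
  haveI hsm0 : Smooth H₀.hom := by
    haveI : Smooth (pullback.snd H₀.hom p) := by
      haveI : IsIso b₁ := by
        haveI : IsIso b := ⟨a, by rw [← cancel_mono (F.map i₀), Category.assoc, ha, hb, Category.id_comp],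
          by rw [← cancel_mono e, Category.assoc, hb, ha, Category.id_comp]⟩
        exact inferInstanceAs (IsIso ((Over.forget _).map b))
      show Smooth (F.obj H₀).hom
      rw [← Over.w b]
      exact inferInstanceAs (Smooth (b₁ ≫ H.hom))
    exact MorphismProperty.of_pullback_snd_of_descendsAlong (P := @Smooth) (Q := @Surjective ⊓ @Flat ⊓ @QuasiCompact)
      (g := p) ⟨⟨inferInstance, inferInstance⟩, inferInstance⟩ inferInstance
  have key : ∀ (T : Over (Spec (CommRingCat.of k))) [IsReduced T.left] (c : T ⟶ G) (d : F.obj T ⟶ H),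
      d ≫ e = F.map c → ∃ m : T ⟶ H₀, m ≫ i₀ = c := fun T _ c d hd => by
    have hc : Set.range c.left ⊆ Set.range i₀.left := by
      rintro _ ⟨t, rfl⟩
      obtain ⟨t', rfl⟩ := (pullback.fst T.hom p).surjective t
      rw [hrange]
      refine ⟨(F.map c).left t', ?_, ?_⟩
      · rw [← hd, Over.comp_left, Scheme.Hom.comp_apply]; exact ⟨_, rfl⟩
      · rw [← Scheme.Hom.comp_apply, (SGA3UnitSec.isPullback_map_left p c).w.symm, Scheme.Hom.comp_apply]
    obtain ⟨m, hm⟩ := RedSepLib.exists_lift_of_range_subset c.left i₀.left hc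
    exact ⟨Over.homMk m (by rw [← Over.w i₀, ← Category.assoc, hm, Over.w]), Over.OverMorphism.ext hm⟩
  haveI : Smooth (H₀ ⊗ H₀).hom := inferInstanceAs (Smooth (pullback.fst H₀.hom H₀.hom ≫ H₀.hom))
  haveI : IsReduced (H₀ ⊗ H₀).left := AbSchLib.isReduced_of_smooth (H₀ ⊗ H₀).hom
  haveI : IsReduced (𝟙_ (Over (Spec (CommRingCat.of k)))).left := inferInstanceAs (IsReduced (Spec (CommRingCat.of k)))
  obtain ⟨inst, hi₀⟩ := exists_grpObj_of_mono i₀
    (by
      refine key _ 1 1 ?_
      rw [MonObj.one_comp]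
      exact (map_one F.homMonoidHom).symm)
    (by
      refine key _ ((fst H₀ H₀ ≫ i₀) * (snd H₀ H₀ ≫ i₀)) ((F.map (fst H₀ H₀) ≫ b) * (F.map (snd H₀ H₀) ≫ b)) ?_
      rw [MonObj.mul_comp, Category.assoc, Category.assoc, hb, ← F.map_comp, ← F.map_comp]
      exact (F.map_mul _ _).symm)
    (by
      refine key _ i₀⁻¹ b⁻¹ ?_
      rw [GrpObj.inv_comp, hb]
      exact (map_inv F.homMonoidHom i₀).symm)
  letI := inst
  haveI := hi₀
  refine ⟨H₀, inst, i₀, a, hi₀, hci, hsm0, ?_, ?_, inferInstance, ?_, ha⟩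
  · haveI : IsIso a.left := inferInstanceAs (IsIso ((Over.forget _).map a))
    haveI : ConnectedSpace ↥(pullback H₀.hom p) := a.left.surjective.connectedSpace a.left.continuous
    exact (pullback.fst H₀.hom p).surjective.connectedSpace (pullback.fst H₀.hom p).continuous
  · intro T g n
    haveI : Smooth (G ⊗ H₀).hom := inferInstanceAs (Smooth (pullback.fst G.hom H₀.hom ≫ G.hom))
    haveI : IsReduced (G ⊗ H₀).left := AbSchLib.isReduced_of_smooth (G ⊗ H₀).hom
    obtain ⟨d, hd⟩ := hHn (F.obj (G ⊗ H₀)) (F.map (fst G H₀)) (F.map (snd G H₀) ≫ b)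
    obtain ⟨m, hm⟩ := key (G ⊗ H₀) (fst G H₀ * (snd G H₀ ≫ i₀) * (fst G H₀)⁻¹) d (by
      rw [← hd, Category.assoc, hb, ← F.map_comp, show (F.map (fst G H₀))⁻¹ = F.map (fst G H₀)⁻¹ from
        (eq_inv_of_mul_eq_one_left (by
          rw [← F.map_mul, inv_mul_cancel]
          exact map_one F.homMonoidHom)).symm]
      exact ((F.map_mul _ _).trans (congrArg (· * _) (F.map_mul _ _))).symm)
    refine ⟨lift g n ≫ m, ?_⟩
    rw [Category.assoc, hm, MonObj.comp_mul, MonObj.comp_mul, GrpObj.comp_inv, lift_fst, lift_snd_assoc]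
  · haveI : IsMonHom (a ≫ F.map i₀) := by rw [ha]; exact he
    exact isMonHom_of_comp a (F.map i₀) inferInstance



/-- The largest good subgroup of a base change to a normal extension descends. -/
theorem exists_descent_largest' [Algebra k L] [Normal k L]
    (hred : ∀ (X : Over (Spec (CommRingCat.of k))) [IsReduced X.left] [LocallyOfFiniteType X.hom],
      IsReduced (pullback X.hom (VarietyLib.sK k L))) {P : GrpProp L}
    (hP : ∀ (τ : Spec (CommRingCat.of L) ⟶ Spec (CommRingCat.of L)) [IsIso τ] (E : Over (Spec (CommRingCat.of L)))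
      [GrpObj E] [Smooth E.hom] [ConnectedSpace E.left], P E → P (Red.bc τ E))
    (G : Over (Spec (CommRingCat.of k))) [GrpObj G] [IsAffine G.left] [Smooth G.hom]
    (H : Good P (Red.bc (VarietyLib.sK k L) G))
    (hmax : ∀ A : Good P (Red.bc (VarietyLib.sK k L) G), ∃ f : A.obj ⟶ H.obj, f ≫ H.emb = A.emb) :
    letI := H.grp
    ∃ (H₀ : Over (Spec (CommRingCat.of k))) (_ : GrpObj H₀) (i₀ : H₀ ⟶ G)
      (a : H.obj ⟶ Red.bc (VarietyLib.sK k L) H₀), IsMonHom i₀ ∧ IsClosedImmersion i₀.left ∧ Smooth H₀.hom ∧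
        ConnectedSpace H₀.left ∧ AlgGrp.IsNormalHom i₀ ∧ IsIso a ∧ IsMonHom a ∧
        a ≫ (Over.pullback (VarietyLib.sK k L)).map i₀ = H.emb := by
  obtain ⟨H, gH, e, he, hec, hHs, hHc, hHn, hHP⟩ := H
  letI := gH
  dsimp only
  haveI := he; haveI := hec; haveI := hHs; haveI := hHc
  haveI : Algebra.IsIntegral k L := Algebra.IsAlgebraic.isIntegral
  haveI : IsIntegralHom (VarietyLib.sK k L) :=
    IsIntegralHom.SpecMap_iff.2 fun x => Algebra.IsIntegral.isIntegral x
  have hsub : ∀ σ : L ≃ₐ[k] L, VarietyLib.gal k G.hom σ '' Set.range e.left ⊆ Set.range e.left := fun σ => by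
    haveI : IsIso (CommRingCat.ofHom (σ.symm : L →ₐ[k] L).toRingHom) :=
      (ConcreteCategory.isIso_iff_bijective _).2 σ.symm.bijective
    let τ : Spec (CommRingCat.of L) ⟶ Spec (CommRingCat.of L) :=
      Spec.map (CommRingCat.ofHom (σ.symm : L →ₐ[k] L).toRingHom)
    haveI : IsIso τ := inferInstanceAs (IsIso (Spec.map _))
    obtain ⟨e', he', hec', hn', hl⟩ := exists_twist (VarietyLib.sK k L) τ
      (Spec.map (CommRingCat.ofHom (σ : L →ₐ[k] L).toRingHom))
      (by rw [← Spec.map_comp, ← CommRingCat.ofHom_comp, AlgHom.toRingHom_eq_coe, AlgHom.comp_algebraMap])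
      (by
        rw [← Spec.map_comp, ← CommRingCat.ofHom_comp,
          show ((σ.symm : L →ₐ[k] L).toRingHom).comp (σ : L →ₐ[k] L).toRingHom = RingHom.id L from by ext x; simp]
        exact Spec.map_id _)
      G (VarietyLib.gal k G.hom σ) (VarietyLib.gal_fst k G.hom σ) (VarietyLib.gal_snd k G.hom σ) e hHn
    haveI := he'
    haveI : Smooth (Red.bc τ H).hom := inferInstanceAs (Smooth (pullback.snd H.hom τ))
    haveI : IsIso (pullback.fst H.hom τ) := inferInstance
    haveI : ConnectedSpace (Red.bc τ H).left :=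
      (inv (pullback.fst H.hom τ)).surjective.connectedSpace (inv (pullback.fst H.hom τ)).continuous
    obtain ⟨f, hf⟩ := hmax ⟨Red.bc τ H, inferInstance, e', he', hec', inferInstance, inferInstance, hn', hP τ H hHP⟩
    replace hf : f ≫ e = e' := hf
    rintro _ ⟨_, ⟨y, rfl⟩, rfl⟩
    refine ⟨f.left ((inv (pullback.fst H.hom τ)) y), ?_⟩
    have h2 : inv (pullback.fst H.hom τ) ≫ f.left ≫ e.left = e.left ≫ VarietyLib.gal k G.hom σ :=
      (congrArg (fun z => inv (pullback.fst H.hom τ) ≫ z) ((congrArg Over.Hom.left hf).trans hl)).trans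
        (IsIso.inv_hom_id_assoc _ _)
    exact congrArg (fun z => z y) h2
  exact exists_descent_subgroup' (VarietyLib.sK k L) hred G e hHn
    (VarietyLib.preimage_image_of_invariant k G.hom fun σ => (hsub σ).antisymm fun z hz =>
      ⟨VarietyLib.gal k G.hom σ.symm z, hsub σ.symm ⟨z, hz, rfl⟩, by
        rw [← Scheme.Hom.comp_apply]
        have := VarietyLib.gal_comp_symm k G.hom σ.symm
        rw [AlgEquiv.symm_symm] at this
        rw [this]; rfl⟩)

theorem isReduced_pullback_perfect [PerfectField k] (X : Over (Spec (CommRingCat.of k))) [IsReduced X.left]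
    [LocallyOfFiniteType X.hom] (p : Spec (CommRingCat.of L) ⟶ Spec (CommRingCat.of k)) : IsReduced (pullback X.hom p) := by
  haveI : GeometricallyReduced X.hom := AbVarLib.geometricallyReduced_of_perfectField X.hom
  exact GeometricallyReduced.geometrically_isReduced (f := X.hom) p _ _ (IsPullback.of_hasPullback X.hom _)

/-- A normal subgroup of a base change whose underlying set comes from the base descends. -/
theorem exists_descent_subgroup [PerfectField k] (p : Spec (CommRingCat.of L) ⟶ Spec (CommRingCat.of k))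
    [IsIntegralHom p] (G : Over (Spec (CommRingCat.of k))) [GrpObj G] [IsAffine G.left] [Smooth G.hom]
    {H : Over (Spec (CommRingCat.of L))} [GrpObj H] [Smooth H.hom] [ConnectedSpace H.left] (e : H ⟶ Red.bc p G)
    [he : IsMonHom e] [IsClosedImmersion e.left] (hHn : AlgGrp.IsNormalHom e)
    (hdesc : pullback.fst G.hom p ⁻¹' (pullback.fst G.hom p '' Set.range e.left) = Set.range e.left) :
    ∃ (H₀ : Over (Spec (CommRingCat.of k))) (_ : GrpObj H₀) (i₀ : H₀ ⟶ G) (a : H ⟶ Red.bc p H₀),
      IsMonHom i₀ ∧ IsClosedImmersion i₀.left ∧ Smooth H₀.hom ∧ ConnectedSpace H₀.left ∧ AlgGrp.IsNormalHom i₀ ∧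
        IsIso a ∧ IsMonHom a ∧ a ≫ (Over.pullback p).map i₀ = e := by
  exact exists_descent_subgroup' p (fun X _ _ => isReduced_pullback_perfect X p) G e hHn hdesc

variable [IsAlgClosed L]

/-- The largest good subgroup of a base change to a normal extension descends. -/
theorem exists_descent_largest [PerfectField k] [Algebra k L] [Normal k L] {P : GrpProp L}
    (hP : ∀ (τ : Spec (CommRingCat.of L) ⟶ Spec (CommRingCat.of L)) [IsIso τ] (E : Over (Spec (CommRingCat.of L)))
      [GrpObj E] [Smooth E.hom] [ConnectedSpace E.left], P E → P (Red.bc τ E))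
    (G : Over (Spec (CommRingCat.of k))) [GrpObj G] [IsAffine G.left] [Smooth G.hom]
    (H : Good P (Red.bc (VarietyLib.sK k L) G))
    (hmax : ∀ A : Good P (Red.bc (VarietyLib.sK k L) G), ∃ f : A.obj ⟶ H.obj, f ≫ H.emb = A.emb) :
    letI := H.grp
    ∃ (H₀ : Over (Spec (CommRingCat.of k))) (_ : GrpObj H₀) (i₀ : H₀ ⟶ G)
      (a : H.obj ⟶ Red.bc (VarietyLib.sK k L) H₀), IsMonHom i₀ ∧ IsClosedImmersion i₀.left ∧ Smooth H₀.hom ∧
        ConnectedSpace H₀.left ∧ AlgGrp.IsNormalHom i₀ ∧ IsIso a ∧ IsMonHom a ∧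
        a ≫ (Over.pullback (VarietyLib.sK k L)).map i₀ = H.emb := by
  exact exists_descent_largest' (fun X _ _ => isReduced_pullback_perfect X _) hP G H hmax

end Groth.Agent.AGFImage11
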