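import Groth.Agent.AGFImage11.RadicalDescent
import Groth.Agent.FBaseLib.Geom
import Groth.Agent.EGA43.DeltaInvariance
import Groth.Agent.SGA3cLib.OpenSubgroup
import Groth.Agent.Et18.PicAxes.AlgClosed

/-!
# The `k`-unipotent radical and separable closure
-/

set_option autoImplicit false
set_option backward.isDefEq.respectTransparency.types false
set_option linter.style.haveILetI false
set_option maxHeartbeats 800000

universe u

open CategoryTheory CategoryTheory.Limits MonoidalCategory CartesianMonoidalCategory MonObj AlgebraicGeometry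
open scoped TensorProduct

noncomputable section

namespace Groth.Agent.AGFImage11

open AlgGrpLib AlgGrpLib.LargestNormal

theorem geometricallyReduced_separable (k L : Type u) [Field k] [Field L] [Algebra k L] [Algebra.IsSeparable k L] :
    GeometricallyReduced (VarietyLib.sK k L) := by
  refine ⟨fun K _ y Z fst snd hK => ?_⟩
  obtain ⟨φ, rfl⟩ := Spec.map_surjective y
  letI : Algebra k K := φ.hom.toAlgebra
  haveI : _root_.IsReduced (L ⊗[k] K) := EGA43.DeltaInvariance.isReduced_tensor_separable k L K
  haveI : AlgebraicGeometry.IsReduced (Spec (CommRingCat.of (L ⊗[k] K))) := inferInstance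
  haveI : AlgebraicGeometry.IsReduced (pullback (VarietyLib.sK k L) (Spec.map φ)) :=
    isReduced_of_isOpenImmersion (pullbackSpecIso k L K).hom
  exact isReduced_of_isOpenImmersion hK.isoPullback.hom

theorem isReduced_pullback_separable {k L : Type u} [Field k] [Field L] [Algebra k L] [Algebra.IsSeparable k L]
    (X : Over (Spec (CommRingCat.of k))) [IsReduced X.left] : IsReduced (pullback X.hom (VarietyLib.sK k L)) := by
  haveI := geometricallyReduced_separable k L
  haveI : IsReduced (pullback (VarietyLib.sK k L) X.hom) := FBaseLib.isReduced_pullback _ _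
  exact isReduced_of_isOpenImmersion (pullbackSymmetry X.hom (VarietyLib.sK k L)).hom

variable {k : Type u} [Field k]

/-- An open subgroup of a group over a field is closed. -/
theorem isClosedImmersion_of_open {G H : Over (Spec (CommRingCat.of k))} [GrpObj G] [GrpObj H] (i : H ⟶ G) [IsMonHom i]
    [IsOpenImmersion i.left] : IsClosedImmersion i.left := by
  haveI : Subsingleton ↥(Spec (CommRingCat.of k)) := inferInstanceAs (Subsingleton (PrimeSpectrum k))
  refine IsClosedImmersion.of_isPreimmersion i.left ?_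
  rw [← closure_subset_iff_isClosed]
  intro y hy
  refine SGA3cLib.mem_range_of_mem_closure_fibre i y fun V hV hyV => ?_
  obtain ⟨z, hz1, hz2⟩ := mem_closure_iff.1 hy V hV hyV
  exact ⟨z, ⟨hz1, Subsingleton.elim _ _⟩, hz2⟩

/-- Affine, smooth, connected, with geometric fibre without subtori. -/
abbrev GeomUnipP : GrpProp k := fun E _ => IsAffine E.left ∧ Smooth E.hom ∧ ConnectedSpace E.left ∧
  ∀ s : (Spec (CommRingCat.of k) : Scheme.{u}),
    Red.HasNoSubtorus (AlgebraicClosure ((Spec (CommRingCat.of k)).residueField s)) (Red.geomFibre s E)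

theorem smooth_of_flat_surjective {E Q : Over (Spec (CommRingCat.of k))} [GrpObj E] [GrpObj Q] [Smooth E.hom] [LocallyOfFiniteType Q.hom]
    (q : E ⟶ Q) [Flat q.left] [Surjective q.left] : Smooth Q.hom := by
  let s : (Spec (CommRingCat.of k) : Scheme.{u}) := IsLocalRing.closedPoint k
  let F := Over.pullback (Red.geomPt s)
  haveI : Smooth (F.obj E).hom := inferInstanceAs (Smooth (pullback.snd E.hom (Red.geomPt s)))
  haveI : LocallyOfFiniteType (F.obj Q).hom := inferInstanceAs (LocallyOfFiniteType (pullback.snd Q.hom (Red.geomPt s)))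
  haveI : IsReduced (F.obj E).left := AbSchLib.isReduced_of_smooth (F.obj E).hom
  haveI : Surjective (F.map q).left := surjective_map s q
  haveI : Flat (F.map q).left := MorphismProperty.overPullbackMap (P := @Flat) (Red.geomPt s) q ‹_›
  haveI : IsReduced (F.obj Q).left := FlatMor12.isReduced_of_flat_surjective (F.map q).left
  haveI : GeometricallyReduced (F.obj Q).hom := AbVarLib.geometricallyReduced_of_perfectField (F.obj Q).hom
  haveI : Smooth (pullback.snd Q.hom (Red.geomPt s)) := AbVarLib.smooth_of_geometricallyReduced (F.obj Q)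
  exact MorphismProperty.of_pullback_snd_of_descendsAlong (P := @Smooth) (Q := @Surjective ⊓ @Flat ⊓ @QuasiCompact)
    (g := Red.geomPt s) ⟨⟨inferInstance, inferInstance⟩, inferInstance⟩ inferInstance

theorem extStable_geomUnipP : ExtStable (GeomUnipP (k := k)) := by
  intro N E Q _ _ _ _ _ _ _ _ _ i q _ _ _ _ hk hN hQ
  obtain ⟨hNa, hNs, hNc, hNt⟩ := hN
  obtain ⟨hQa, hQs, hQc, hQt⟩ := hQ
  obtain ⟨ha, hs, hc⟩ := Groth.Agent.S7982.result k N E Q i q hk
  refine ⟨ha hNa hQa, hs hNs hQs, hc hNc hQc, fun s => ?_⟩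
  haveI := hNs; haveI := hQs; haveI := hNc; haveI := hQc
  let F := Over.pullback (Red.geomPt s)
  haveI : Flat (F.map q).left := MorphismProperty.overPullbackMap (P := @Flat) (Red.geomPt s) q ‹_›
  haveI : Surjective (F.map q).left := surjective_map s q
  haveI : IsAffine N.left := hNa
  haveI : IsAffine Q.left := hQa
  haveI : IsAffine E.left := ha hNa hQa
  haveI : IsAffine (F.obj N).left := inferInstanceAs (IsAffine (pullback N.hom (Red.geomPt s)))
  haveI : IsAffine (F.obj Q).left := inferInstanceAs (IsAffine (pullback Q.hom (Red.geomPt s)))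
  haveI : IsAffine (F.obj E).left := inferInstanceAs (IsAffine (pullback E.hom (Red.geomPt s)))
  haveI : LocallyOfFiniteType (F.obj N).hom := inferInstanceAs (LocallyOfFiniteType (pullback.snd N.hom (Red.geomPt s)))
  haveI : LocallyOfFiniteType (F.obj Q).hom := inferInstanceAs (LocallyOfFiniteType (pullback.snd Q.hom (Red.geomPt s)))
  haveI : LocallyOfFiniteType (F.obj E).hom := inferInstanceAs (LocallyOfFiniteType (pullback.snd E.hom (Red.geomPt s)))
  haveI : QuasiCompact (F.obj N).hom := (quasiCompact_iff_compactSpace _).2 inferInstance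
  haveI : QuasiCompact (F.obj Q).hom := (quasiCompact_iff_compactSpace _).2 inferInstance
  haveI : QuasiCompact (F.obj E).hom := (quasiCompact_iff_compactSpace _).2 inferInstance
  exact (extStable_unipP (F.obj N) (F.obj E) (F.obj Q) (F.map i) (F.map q) (isKernel_bc (Red.geomPt s) i q hk)
    ⟨inferInstance, inferInstanceAs (Smooth (pullback.snd N.hom (Red.geomPt s))), connectedSpace_pullback s, hNt s⟩
    ⟨inferInstance, inferInstanceAs (Smooth (pullback.snd Q.hom (Red.geomPt s))), connectedSpace_pullback s, hQt s⟩).2.2.2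

theorem quotStable_geomUnipP : QuotStable (GeomUnipP (k := k)) := by
  intro E Q _ _ _ _ _ _ q _ _ _ hE
  obtain ⟨hEa, hEs, hEc, hEt⟩ := hE
  haveI := hEa; haveI := hEs; haveI := hEc
  haveI : IsAffine Q.left := AffineToProper.isAffine_of_flat_surjective q
  haveI : Smooth Q.hom := smooth_of_flat_surjective q
  haveI : ConnectedSpace Q.left := q.left.surjective.connectedSpace q.left.continuous
  refine ⟨inferInstance, inferInstance, inferInstance, fun s => ?_⟩
  let F := Over.pullback (Red.geomPt s)
  haveI : Surjective (F.map q).left := surjective_map s q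
  haveI : IsAffine (F.obj Q).left := inferInstanceAs (IsAffine (pullback Q.hom (Red.geomPt s)))
  haveI : IsAffine (F.obj E).left := inferInstanceAs (IsAffine (pullback E.hom (Red.geomPt s)))
  haveI : Smooth (F.obj Q).hom := inferInstanceAs (Smooth (pullback.snd Q.hom (Red.geomPt s)))
  haveI : Smooth (F.obj E).hom := inferInstanceAs (Smooth (pullback.snd E.hom (Red.geomPt s)))
  haveI : ConnectedSpace (F.obj Q).left := connectedSpace_pullback s
  haveI : ConnectedSpace (F.obj E).left := connectedSpace_pullback s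
  exact TorusUnip.hasNoSubtorus_of_surjective (F.map q) (hEt s)

/-- The `k`-unipotent radical exists. -/
theorem exists_geomUnipRadical (G : Over (Spec (CommRingCat.of k))) [GrpObj G] [IsAffine G.left]
    [LocallyOfFiniteType G.hom] :
    ∃ H : Good (GeomUnipP (k := k)) G, ∀ A : Good (GeomUnipP (k := k)) G, ∃ f : A.obj ⟶ H.obj, f ≫ H.emb = A.emb := by
  haveI : QuasiCompact G.hom := (quasiCompact_iff_compactSpace G.hom).2 inferInstance
  refine exists_largest extStable_geomUnipP quotStable_geomUnipP ?_
  have h1 : Smooth (𝟙_ (Over (Spec (CommRingCat.of k)))).hom := inferInstanceAs (Smooth (𝟙 (Spec (CommRingCat.of k))))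
  have h2 : ConnectedSpace (𝟙_ (Over (Spec (CommRingCat.of k)))).left := inferInstanceAs (ConnectedSpace (PrimeSpectrum k))
  refine ⟨⟨𝟙_ _, inferInstance, η[G], inferInstance, ?_, h1, h2, ?_,
    ⟨inferInstanceAs (IsAffine (Spec (CommRingCat.of k))), h1, h2, fun s T _ j _ _ _ => ?_⟩⟩⟩
  · exact SGA3xLib.isClosedImmersion_of_section G.hom η[G].left (Over.w η[G])
  · intro T g n
    refine ⟨n, ?_⟩
    rw [MonObj.one_eq_one, MonObj.comp_one]
    simp
  · refine TorusUnip.isIso_hom_of_mono_one j ?_
    haveI : IsIso (Red.geomFibre s (𝟙_ (Over (Spec (CommRingCat.of k))))).hom :=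
      inferInstanceAs (IsIso (pullback.snd (𝟙 (Spec (CommRingCat.of k))) (Red.geomPt s)))
    exact subsingleton_hom_of_isIso _ _

/-- The largest normal subgroup with a property of a normal subgroup is normal in the whole group. -/
theorem isNormalHom_largest_sepClosed [IsSepClosed k] {P : GrpProp k} {G N : Over (Spec (CommRingCat.of k))} [GrpObj G]
    [GrpObj N] [Smooth G.hom] [QuasiCompact G.hom] (i : N ⟶ G) [IsMonHom i] [IsClosedImmersion i.left]
    (hN : AlgGrp.IsNormalHom i) (H : Good P N) (hmax : ∀ A : Good P N, ∃ f : A.obj ⟶ H.obj, f ≫ H.emb = A.emb) :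
    letI := H.grp
    AlgGrp.IsNormalHom (H.emb ≫ i) := by
  obtain ⟨H, gH, e, he, hec, hHs, hHc, hHn, hHP⟩ := H
  letI := gH
  dsimp only
  haveI := he; haveI := hec; haveI := hHs
  haveI : Mono i := Over.mono_of_mono_left i
  haveI : IsClosedImmersion (e ≫ i).left := by rw [Over.comp_left]; infer_instance
  haveI : QuasiCompact H.hom := by rw [← Over.w (e ≫ i)]; infer_instance
  refine Groth.Agent.S8000.result k k G H (e ≫ i) fun g h => ?_
  haveI : IsIso (Over.mk (Spec.map (CommRingCat.ofHom (algebraMap k k)))).hom := by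
    show IsIso (Spec.map (CommRingCat.ofHom (RingHom.id k)))
    rw [show CommRingCat.ofHom (RingHom.id k) = 𝟙 (CommRingCat.of k) from rfl, Spec.map_id]; infer_instance
  obtain ⟨c, hcm, hci, hc⟩ := exists_conjAut i hN g
  haveI := hcm; haveI := hci
  haveI : IsIso c.left := inferInstanceAs (IsIso ((Over.forget _).map c))
  haveI : IsClosedImmersion (e ≫ c).left := by rw [Over.comp_left]; infer_instance
  obtain ⟨f', hf'⟩ := hmax ⟨H, gH, e ≫ c, inferInstance, inferInstance, hHs, hHc, fun T t n => by
    obtain ⟨n', hn'⟩ := hHn T (t ≫ inv c) n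
    refine ⟨n', ?_⟩
    have h3 := congrArg (fun z => z ≫ c) hn'
    simp only [MonObj.mul_comp, GrpObj.inv_comp, Category.assoc, IsIso.inv_hom_id, Category.comp_id] at h3
    exact h3, hHP⟩
  replace hf' : f' ≫ e = e ≫ c := hf'
  refine ⟨h ≫ f', ?_⟩
  rw [show (h ≫ f') ≫ e ≫ i = ((h ≫ e) ≫ c) ≫ i by simp only [Category.assoc, reassoc_of% hf'],
    hc _ (h ≫ e) (𝟙 _), Category.id_comp, Category.assoc]

/-- Base change of a geometrically unipotent group along any extension of fields. -/
theorem geomUnip_bc {K : Type u} [Field K] (p : Spec (CommRingCat.of K) ⟶ Spec (CommRingCat.of k))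
    {U : Over (Spec (CommRingCat.of k))} [GrpObj U] [IsAffine U.left] [Smooth U.hom] [ConnectedSpace U.left]
    (s₀ : (Spec (CommRingCat.of k) : Scheme.{u}))
    (h : Red.HasNoSubtorus (AlgebraicClosure ((Spec (CommRingCat.of k)).residueField s₀)) (Red.geomFibre s₀ U))
    (s : (Spec (CommRingCat.of K) : Scheme.{u})) :
    Red.HasNoSubtorus (AlgebraicClosure ((Spec (CommRingCat.of K)).residueField s)) (Red.geomFibre s (Red.bc p U)) := by
  obtain ⟨l, hlp, hl⟩ := exists_prime_ne_zero (k := k)
  haveI := isIso_pow_of_geom hl s₀ h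
  haveI : IsIso ((𝟙 (Red.bc p U)) ^ l) := map_pow_id p U l ▸ inferInstance
  exact hasNoSubtorus_bc_of_isIso_pow (Red.geomPt s) (natCast_ne_zero_of_map p hl) hlp.one_lt

/-- A group is geometrically unipotent if its base change to a field extension is. -/
theorem geomUnip_of_bc {K : Type u} [Field K] (p : Spec (CommRingCat.of K) ⟶ Spec (CommRingCat.of k))
    {U : Over (Spec (CommRingCat.of k))} [GrpObj U]
    [IsAffine (Red.bc p U).left] [Smooth (Red.bc p U).hom] [ConnectedSpace (Red.bc p U).left]
    (s₁ : (Spec (CommRingCat.of K) : Scheme.{u}))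
    (h : Red.HasNoSubtorus (AlgebraicClosure ((Spec (CommRingCat.of K)).residueField s₁)) (Red.geomFibre s₁ (Red.bc p U)))
    (s : (Spec (CommRingCat.of k) : Scheme.{u})) :
    Red.HasNoSubtorus (AlgebraicClosure ((Spec (CommRingCat.of k)).residueField s)) (Red.geomFibre s U) := by
  obtain ⟨l, hlp, hl⟩ := exists_prime_ne_zero (k := k)
  haveI := isIso_pow_of_geom (natCast_ne_zero_of_map p hl) s₁ h
  haveI : Surjective p := surjective_fieldMap p
  haveI : IsIso ((Over.pullback p).map ((𝟙 U : U ⟶ U) ^ l)) := by rw [map_pow_id]; infer_instance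
  haveI := isIso_of_isIso_map p ((𝟙 U : U ⟶ U) ^ l)
  exact hasNoSubtorus_bc_of_isIso_pow (Red.geomPt s) hl hlp.one_lt

/-- The `k`-unipotent radical commutes with passage to a separable closure. -/
theorem geomUnipRadical_sep_largest {K : Type u} [Field K] [Algebra k K] [Normal k K] [Algebra.IsSeparable k K]
    (G : Over (Spec (CommRingCat.of k))) [GrpObj G] [IsAffine G.left] [Smooth G.hom]
    {U : Over (Spec (CommRingCat.of k))} [GrpObj U] (u : U ⟶ G) (hU : Par.IsUnipotentRadical u)
    (A : Good GeomUnipP (Red.bc (VarietyLib.sK k K) G)) :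
    ∃ f : A.obj ⟶ Red.bc (VarietyLib.sK k K) U, f ≫ (Over.pullback (VarietyLib.sK k K)).map u = A.emb := by
  let p := VarietyLib.sK k K
  haveI : Surjective p := surjective_fieldMap p
  haveI : IsAffine (Red.bc p G).left := inferInstanceAs (IsAffine (pullback G.hom p))
  haveI : Smooth (Red.bc p G).hom := inferInstanceAs (Smooth (pullback.snd G.hom p))
  obtain ⟨H, hmax⟩ := exists_geomUnipRadical (Red.bc p G)
  obtain ⟨f₁, hf₁⟩ := hmax A
  obtain ⟨H₀, _, i₀, a, hi₀, hcl, hsm, hc, hn, ha, ham, hae⟩ := exists_descent_largest'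
    (fun X _ _ => isReduced_pullback_separable X) (P := GeomUnipP) (fun τ _ E _ _ _ hE => by
      obtain ⟨hEa, hEs, hEc, hEt⟩ := hE
      haveI := hEa
      haveI : IsIso (pullback.fst E.hom τ) := inferInstance
      exact ⟨inferInstanceAs (IsAffine (pullback E.hom τ)), inferInstanceAs (Smooth (pullback.snd E.hom τ)),
        (inv (pullback.fst E.hom τ)).surjective.connectedSpace (inv (pullback.fst E.hom τ)).continuous,
        geomUnip_bc τ (IsLocalRing.closedPoint K) (hEt _)⟩) G H hmax
  letI := H.grp
  haveI := hi₀; haveI := hcl; haveI := hsm; haveI := hc; haveI := ha; haveI := ham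
  haveI : IsAffine H₀.left := isAffine_of_isAffineHom i₀.left
  haveI : QuasiCompact H₀.hom := (quasiCompact_iff_compactSpace H₀.hom).2 inferInstance
  haveI : Smooth (Red.bc p H₀).hom := inferInstanceAs (Smooth (pullback.snd H₀.hom p))
  haveI : IsAffine (Red.bc p H₀).left := inferInstanceAs (IsAffine (pullback H₀.hom p))
  haveI : IsIso a.left := inferInstanceAs (IsIso ((Over.forget _).map a))
  haveI : ConnectedSpace H.obj.left := H.conn
  haveI : ConnectedSpace (Red.bc p H₀).left := a.left.surjective.connectedSpace a.left.continuous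
  let s₁ : (Spec (CommRingCat.of K) : Scheme.{u}) := IsLocalRing.closedPoint K
  haveI : IsMonHom ((Over.pullback (Red.geomPt s₁)).map a) := inferInstance
  haveI : IsIso ((Over.pullback (Red.geomPt s₁)).map a) := inferInstance
  obtain ⟨f₀, hf₀⟩ := hU.2.2.2.2.2.2 H₀ i₀ hcl hn hsm inferInstance fun t =>
    ⟨connectedSpace_pullback t, geomUnip_of_bc p s₁
      (hasNoSubtorus_of_iso ((Over.pullback (Red.geomPt s₁)).map a) (H.prop.2.2.2 s₁)) t⟩
  refine ⟨f₁ ≫ a ≫ (Over.pullback p).map f₀, ?_⟩
  rw [Category.assoc, Category.assoc, ← Functor.map_comp, hf₀, hae, hf₁]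

/-- Normality descends along field extensions for smooth groups. -/
theorem isNormalHom_of_bc {K : Type u} [Field K] (p : Spec (CommRingCat.of K) ⟶ Spec (CommRingCat.of k))
    {G U : Over (Spec (CommRingCat.of k))} [GrpObj G] [GrpObj U] [Smooth G.hom] [Smooth U.hom] (u : U ⟶ G)
    [IsClosedImmersion u.left] (h : AlgGrp.IsNormalHom ((Over.pullback p).map u : Red.bc p U ⟶ Red.bc p G)) :
    AlgGrp.IsNormalHom u := by
  haveI : Surjective p := surjective_fieldMap p
  haveI : Smooth (G ⊗ U).hom := inferInstanceAs (Smooth (pullback.fst G.hom U.hom ≫ G.hom))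
  haveI : IsReduced (G ⊗ U).left := AbSchLib.isReduced_of_smooth (G ⊗ U).hom
  obtain ⟨d, hd⟩ := (GrpLim26.normal_bc_iff p u).1 h
  let c := GrpLim26.conjMor u
  have hr : Set.range c.left ⊆ Set.range u.left := by
    rintro _ ⟨t, rfl⟩
    obtain ⟨t', rfl⟩ := (pullback.fst (G ⊗ U).hom p).surjective t
    refine ⟨pullback.fst U.hom p (d.left t'), ?_⟩
    rw [← Scheme.Hom.comp_apply, ← Scheme.Hom.comp_apply, ← Scheme.Hom.comp_apply,
      (SGA3UnitSec.isPullback_map_left p u).w, (SGA3UnitSec.isPullback_map_left p c).w, ← hd, Over.comp_left]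
    simp only [Category.assoc]
  obtain ⟨l, hl⟩ := RedSepLib.exists_lift_of_range_subset c.left u.left hr
  refine (GrpLim26.normal_iff u).2 ⟨Over.homMk l (by rw [← Over.w u, ← Category.assoc, hl, Over.w]), ?_⟩
  exact Over.OverMorphism.ext hl

/-- The identity component is normal. -/
theorem exists_conj_factor {G G₀ : Over (Spec (CommRingCat.of k))} [GrpObj G] [GrpObj G₀] (j : G₀ ⟶ G) [IsMonHom j]
    [IsOpenImmersion j.left] [IsClosedImmersion j.left] [ConnectedSpace G₀.left]
    {T : Over (Spec (CommRingCat.of k))} (g : T ⟶ G) (n : T ⟶ G₀) :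
    ∃ l : T ⟶ G₀, l ≫ j = g * (n ≫ j) * g⁻¹ := by
  haveI : GeometricallyConnected G₀.hom := Et18.PicAxes.geometricallyConnected_of_group G₀
  let c := GrpLim26.conjMor j
  have hcl : IsClopen (c.left ⁻¹' Set.range j.left) :=
    ⟨j.left.isClosedEmbedding.isClosed_range.preimage c.left.continuous,
      j.left.isOpenEmbedding.isOpen_range.preimage c.left.continuous⟩
  let s : G ⟶ G ⊗ G₀ := lift (𝟙 G) 1
  have hs : s ≫ c = toUnit G ≫ η[G₀] ≫ j := by
    rw [show s ≫ c = _ from GrpLim26.conjMor_comp j (𝟙 G) (1 : G ⟶ G₀), MonObj.one_comp, _root_.mul_one, _root_.mul_inv_cancel,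
      IsMonHom.one_hom, MonObj.one_eq_one, MonObj.comp_one]
  have hsub : Set.range c.left ⊆ Set.range j.left := by
    rintro _ ⟨z, rfl⟩
    let x := (fst G G₀).left z
    have hconn : _root_.IsConnected ((fst G G₀).left ⁻¹' {x}) :=
      Scheme.Hom.isConnected_preimage_singleton (pullback.fst G.hom G₀.hom) x
    have hmem : (s.left x) ∈ (fst G G₀).left ⁻¹' {x} := by
      show (fst G G₀).left (s.left x) = x
      rw [← Scheme.Hom.comp_apply, ← Over.comp_left, lift_fst]
      rfl
    have hW : (s.left x) ∈ c.left ⁻¹' Set.range j.left := by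
      rw [Set.mem_preimage]
      rw [← Scheme.Hom.comp_apply, ← Over.comp_left, hs, Over.comp_left, Over.comp_left, ← Category.assoc]
      exact ⟨_, rfl⟩
    exact hconn.isPreconnected.subset_isClopen hcl ⟨_, hmem, hW⟩ (rfl : (fst G G₀).left z = x)
  let m : G ⊗ G₀ ⟶ G₀ := Over.homMk (IsOpenImmersion.lift j.left c.left hsub)
    (by rw [← Over.w j, IsOpenImmersion.lift_fac_assoc]; exact Over.w c)
  have hm : m ≫ j = c := by ext : 1; exact IsOpenImmersion.lift_fac _ _ _
  exact ⟨lift g n ≫ m, by rw [Category.assoc, hm, GrpLim26.conjMor_comp]⟩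

end Groth.Agent.AGFImage11
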