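import Groth.Prelude.Def_AGF
import Groth.Prelude.Def_Red
import Mathlib.CategoryTheory.Monoidal.Cartesian.Over
import Mathlib.CategoryTheory.Adjunction.Limits

/-!
# Base change of quotients
-/

set_option autoImplicit false
set_option backward.isDefEq.respectTransparency false
set_option backward.isDefEq.respectTransparency.types false

universe u

open CategoryTheory CategoryTheory.Limits MonoidalCategory CartesianMonoidalCategory MonObj GrpObj AlgebraicGeometry

namespace Groth.Agent.AGFImage11

variable {S T : Scheme.{u}} (π : T ⟶ S) {G X : Over S} [GrpObj G]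

/-- Base change of an action. -/
noncomputable def bcAction (a : AlgGrp.Action G X) :
    AlgGrp.Action ((Over.pullback π).obj G) ((Over.pullback π).obj X) where
  act := Functor.LaxMonoidal.μ (Over.pullback π) G X ≫ (Over.pullback π).map a.act
  one_act := by
    rw [Functor.obj.η_def, comp_whiskerRight, Category.assoc, Functor.LaxMonoidal.μ_natural_left_assoc,
      ← Functor.map_comp, a.one_act, Functor.LaxMonoidal.left_unitality]
  mul_act := by
    rw [Functor.obj.μ_def, comp_whiskerRight, Category.assoc, Functor.LaxMonoidal.μ_natural_left_assoc,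
      ← Functor.map_comp, a.mul_act, Functor.map_comp, Functor.map_comp,
      Functor.LaxMonoidal.associativity_assoc, whiskerLeft_comp, Category.assoc,
      Functor.LaxMonoidal.μ_natural_right_assoc]

/-- Base change of orbit maps. -/
theorem bcAction_orbitMap (a : AlgGrp.Action G X) (o : 𝟙_ (Over S) ⟶ X) :
    (bcAction π a).orbitMap (Functor.LaxMonoidal.ε (Over.pullback π) ≫ (Over.pullback π).map o) =
      (Over.pullback π).map (a.orbitMap o) := by
  have h : toUnit ((Over.pullback π).obj G) ≫ Functor.LaxMonoidal.ε (Over.pullback π) = (Over.pullback π).map (toUnit G) := by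
    haveI : IsIso (Functor.LaxMonoidal.ε (Over.pullback π)) := inferInstanceAs (IsIso (Functor.Monoidal.εIso (Over.pullback π)).hom)
    rw [← cancel_mono (inv (Functor.LaxMonoidal.ε (Over.pullback π)))]
    exact toUnit_unique _ _
  show lift _ _ ≫ Functor.LaxMonoidal.μ (Over.pullback π) G X ≫ (Over.pullback π).map a.act = _
  rw [← Category.assoc (toUnit ((Over.pullback π).obj G)), h, ← Functor.map_comp,
    ← (Over.pullback π).map_id G, Functor.Monoidal.lift_μ_assoc, ← Functor.map_comp]
  rfl

/-- Base change of quotients. -/
theorem isQuotient_bc {H : Over S} [GrpObj H] (i : H ⟶ G) (a : AlgGrp.Action G X) (o : 𝟙_ (Over S) ⟶ X)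
    (hX : AGF.IsQuotient i X a o) :
    AGF.IsQuotient ((Over.pullback π).map i) ((Over.pullback π).obj X) (bcAction π a)
      (Functor.LaxMonoidal.ε (Over.pullback π) ≫ (Over.pullback π).map o) := by
  obtain ⟨hl, hf, hs, hp⟩ := hX
  haveI : (Over.pullback π).IsRightAdjoint := (Over.mapPullbackAdj π).isRightAdjoint
  rw [AGF.IsQuotient, bcAction_orbitMap]
  refine ⟨?_, MorphismProperty.overPullbackMap (P := @Flat) π (a.orbitMap o) hf,
    MorphismProperty.overPullbackMap (P := @Surjective) π (a.orbitMap o) hs, ?_⟩
  · haveI := hl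
    exact inferInstanceAs (LocallyOfFiniteType (pullback.snd X.hom π))
  · refine (hp.map (Over.pullback π)).of_iso (Functor.Monoidal.μIso (Over.pullback π) G H).symm
      (Iso.refl _) (Iso.refl _) (Iso.refl _) ?_ ?_ (by simp) (by simp)
    · simp [Functor.OplaxMonoidal.δ_fst]
    · simp only [Iso.refl_hom, Category.comp_id, Functor.obj.μ_def, Iso.symm_hom, Functor.Monoidal.μIso_inv,
        Functor.LaxMonoidal.μ_natural_right_assoc, ← Functor.map_comp, Functor.Monoidal.δ_μ_assoc]

end Groth.Agent.AGFImage11
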