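import Groth.Agent.AGFImage11.BorelImage
import Groth.Agent.AlgGrpLib.TorusUnipotent
import Groth.Agent.AlgGrpLib.LargestNormal
import Groth.Agent.AlgGrpLib.AffineToProper
import Groth.Agent.AbVarLib.MulIsogeny
import Groth.Agent.AbVarLib.PerfectReduced
import Groth.Agent.FlatMor12.GeomDescent
import Groth.Agent.GrpLim26.Normal
import Groth.Agent.S8000

/-!
# The unipotent radical over an algebraically closed field and normal subgroups of reductive groups
-/

set_option autoImplicit false
set_option backward.isDefEq.respectTransparency.types false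
set_option linter.style.haveILetI false

universe u

open CategoryTheory CategoryTheory.Limits MonoidalCategory CartesianMonoidalCategory MonObj AlgebraicGeometry

noncomputable section

namespace Groth.Agent.AGFImage11

open AlgGrpLib AlgGrpLib.LargestNormal

variable {k : Type u} [Field k]

theorem subsingleton_hom_of_isIso {T H : Over (Spec (CommRingCat.of k))} [IsIso H.hom] (a b : T ⟶ H) : a = b :=
  Over.OverMorphism.ext (by rw [← cancel_mono H.hom, Over.w, Over.w])

/-- Conjugation by a rational point preserves a normal subgroup. -/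
theorem exists_conjAut {N G : Over (Spec (CommRingCat.of k))} [GrpObj N] [GrpObj G] (i : N ⟶ G) [IsMonHom i] [Mono i]
    (hN : AlgGrp.IsNormalHom i) {P : Over (Spec (CommRingCat.of k))} [IsIso P.hom] (g : P ⟶ G) :
    ∃ c : N ⟶ N, IsMonHom c ∧ IsIso c ∧
      ∀ (T : Over (Spec (CommRingCat.of k))) (x : T ⟶ N) (t : T ⟶ P),
        (x ≫ c) ≫ i = (t ≫ g) * (x ≫ i) * (t ≫ g)⁻¹ := by
  let e : N ⟶ P := Over.homMk (N.hom ≫ inv P.hom) (by simp)
  have key : ∀ g₁ : P ⟶ G, ∃ c : N ⟶ N, ∀ (T : Over (Spec (CommRingCat.of k))) (x : T ⟶ N) (t : T ⟶ P),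
      (x ≫ c) ≫ i = (t ≫ g₁) * (x ≫ i) * (t ≫ g₁)⁻¹ := fun g₁ => by
    obtain ⟨c, hc⟩ := hN N (e ≫ g₁) (𝟙 N)
    refine ⟨c, fun T x t => ?_⟩
    rw [Category.assoc, ← hc, MonObj.comp_mul, MonObj.comp_mul, GrpObj.comp_inv, Category.id_comp,
      ← Category.assoc x e g₁, subsingleton_hom_of_isIso (x ≫ e) t]
  obtain ⟨c, hc⟩ := key g
  obtain ⟨c', hc'⟩ := key g⁻¹
  refine ⟨c, MultTypeAct.isMonHom_of_map_mul c fun {T} x y => ?_, ⟨c', ?_, ?_⟩, hc⟩
  · let t : T ⟶ P := Over.homMk (T.hom ≫ inv P.hom) (by simp)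
    rw [← cancel_mono i, hc T _ t, MonObj.mul_comp, MonObj.mul_comp _ _ i, hc T x t, hc T y t]
    group
  · have h1 := hc N (𝟙 N) e
    have h2 := hc' N c e
    rw [Category.id_comp] at h1
    rw [← cancel_mono i, h2, h1, GrpObj.comp_inv, Category.id_comp]
    group
  · have h1 := hc' N (𝟙 N) e
    have h2 := hc N c' e
    rw [Category.id_comp] at h1
    rw [← cancel_mono i, h2, h1, GrpObj.comp_inv, Category.id_comp]
    group

variable [IsAlgClosed k]

/-- Affine, smooth, connected, without subtori. -/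
abbrev UnipP : GrpProp k := fun E _ => IsAffine E.left ∧ Smooth E.hom ∧ ConnectedSpace E.left ∧ Red.HasNoSubtorus k E

theorem extStable_unipP : ExtStable (UnipP (k := k)) := by
  intro N E Q _ _ _ _ _ _ _ _ _ i q _ _ _ _ hk hN hQ
  obtain ⟨hNa, hNs, hNc, hNt⟩ := hN
  obtain ⟨hQa, hQs, hQc, hQt⟩ := hQ
  obtain ⟨ha, hs, hc⟩ := Groth.Agent.S7982.result k N E Q i q hk
  refine ⟨ha hNa hQa, hs hNs hQs, hc hNc hQc, ?_⟩
  intro T _ j _ _ hT
  haveI := hQa; haveI := hQs; haveI := hQc
  obtain ⟨B, _, _, b, hb, hbm⟩ := HopfQuot.exists_spec (k := k) Q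
  haveI := hb; haveI := hbm
  haveI := UnipStruct.finiteType_of_iso b
  have h := TorusUnip.hom_eq_one hT b (NoTorus.isUnipotent_of_hasNoSubtorus hQt b) (j ≫ q)
  obtain ⟨n, hn⟩ := exists_lift_kernel hk h
  haveI := kernel_mono hk
  haveI : IsMonHom (n ≫ i) := by rw [hn]; infer_instance
  haveI : IsMonHom n := isMonHom_of_comp n i inferInstance
  haveI : Mono (n ≫ i) := by rw [hn]; infer_instance
  haveI : Mono n := mono_of_mono n i
  exact hNt T n hT

theorem quotStable_unipP : QuotStable (UnipP (k := k)) := by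
  intro E Q _ _ _ _ _ _ q _ _ _ hE
  obtain ⟨hEa, hEs, hEc, hEt⟩ := hE
  haveI := hEa; haveI := hEs; haveI := hEc
  haveI : IsAffine Q.left := AffineToProper.isAffine_of_flat_surjective q
  haveI : IsReduced E.left := AbSchLib.isReduced_of_smooth E.hom
  haveI : IsReduced Q.left := FlatMor12.isReduced_of_flat_surjective q.left
  haveI : GeometricallyReduced Q.hom := AbVarLib.geometricallyReduced_of_perfectField Q.hom
  haveI : Smooth Q.hom := AbVarLib.smooth_of_geometricallyReduced Q
  haveI : ConnectedSpace Q.left := q.left.surjective.connectedSpace q.left.continuous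
  exact ⟨inferInstance, inferInstance, inferInstance, TorusUnip.hasNoSubtorus_of_surjective q hEt⟩

/-- The unipotent radical exists. -/
theorem exists_unipotentRadical (G : Over (Spec (CommRingCat.of k))) [GrpObj G] [IsAffine G.left]
    [LocallyOfFiniteType G.hom] :
    ∃ H : Good (UnipP (k := k)) G, ∀ A : Good (UnipP (k := k)) G, ∃ f : A.obj ⟶ H.obj, f ≫ H.emb = A.emb := by
  haveI : QuasiCompact G.hom := (quasiCompact_iff_compactSpace G.hom).2 inferInstance
  refine exists_largest extStable_unipP quotStable_unipP ?_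
  have h1 : Smooth (𝟙_ (Over (Spec (CommRingCat.of k)))).hom := inferInstanceAs (Smooth (𝟙 (Spec (CommRingCat.of k))))
  have h2 : ConnectedSpace (𝟙_ (Over (Spec (CommRingCat.of k)))).left := inferInstanceAs (ConnectedSpace (PrimeSpectrum k))
  refine ⟨⟨𝟙_ _, inferInstance, η[G], inferInstance, ?_, h1, h2, ?_,
    ⟨inferInstanceAs (IsAffine (Spec (CommRingCat.of k))), h1, h2, fun T _ j _ _ _ => ?_⟩⟩⟩
  · exact SGA3xLib.isClosedImmersion_of_section G.hom η[G].left (Over.w η[G])
  · intro T g n
    refine ⟨n, ?_⟩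
    rw [MonObj.one_eq_one, MonObj.comp_one]
    simp
  · exact TorusUnip.isIso_hom_of_mono_one j (toUnit_unique _ _)

/-- Smooth connected normal subgroups of reductive groups are reductive. -/
theorem isReductiveOver_of_normal {G N : Over (Spec (CommRingCat.of k))} [GrpObj G] [GrpObj N]
    (hG : Red.IsReductiveOver k G) (i : N ⟶ G) [IsMonHom i] [IsClosedImmersion i.left] [Smooth N.hom]
    [ConnectedSpace N.left] (hN : AlgGrp.IsNormalHom i) : Red.IsReductiveOver k N := by
  obtain ⟨hGa, hGs, -, hGU⟩ := hG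
  haveI := hGa; haveI := hGs
  haveI : IsAffine N.left := isAffine_of_isAffineHom i.left
  haveI : Mono i := Over.mono_of_mono_left i
  refine ⟨inferInstance, inferInstance, inferInstance, fun U _ u _ hcl hsm hconn hnorm hns => ?_⟩
  obtain ⟨⟨H, gH, e, he, hec, hHs, hHc, hHn, hHP⟩, hmax⟩ := exists_unipotentRadical N
  letI := gH
  haveI := he; haveI := hec; haveI := hHs; haveI := hcl
  haveI : IsAffine U.left := isAffine_of_isAffineHom u.left
  obtain ⟨f, hf⟩ := hmax ⟨U, inferInstance, u, inferInstance, hcl, hsm, hconn, hnorm, ⟨inferInstance, hsm, hconn, hns⟩⟩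
  replace hf : f ≫ e = u := hf
  haveI : Mono e := Over.mono_of_mono_left e
  haveI : IsClosedImmersion (e ≫ i).left := by rw [Over.comp_left]; infer_instance
  haveI : QuasiCompact G.hom := (quasiCompact_iff_compactSpace G.hom).2 inferInstance
  haveI : QuasiCompact H.hom := by rw [← Over.w (e ≫ i)]; infer_instance
  haveI : IsSepClosed k := inferInstance
  have hn : AlgGrp.IsNormalHom (e ≫ i) := by
    refine Groth.Agent.S8000.result k k G H (e ≫ i) fun g h => ?_
    haveI : IsIso (Over.mk (Spec.map (CommRingCat.ofHom (algebraMap k k)))).hom := by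
      show IsIso (Spec.map (CommRingCat.ofHom (RingHom.id k)))
      rw [show CommRingCat.ofHom (RingHom.id k) = 𝟙 (CommRingCat.of k) from rfl, Spec.map_id]; infer_instance
    obtain ⟨c, hcm, hci, hc⟩ := exists_conjAut i hN g
    haveI := hcm; haveI := hci
    haveI : IsIso c.left := inferInstanceAs (IsIso ((Over.forget _).map c))
    haveI : IsClosedImmersion (e ≫ c).left := by rw [Over.comp_left]; infer_instance
    obtain ⟨f', hf'⟩ := hmax ⟨H, gH, e ≫ c, inferInstance, inferInstance, hHs, hHc, fun T t n => by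
      obtain ⟨n', hn'⟩ := hHn T (t ≫ inv c) n
      refine ⟨n', ?_⟩
      have h3 := congrArg (fun z => z ≫ c) hn'
      simp only [MonObj.mul_comp, GrpObj.inv_comp, Category.assoc, IsIso.inv_hom_id, Category.comp_id] at h3
      exact h3, hHP⟩
    refine ⟨h ≫ f', ?_⟩
    rw [show (h ≫ f') ≫ e ≫ i = ((h ≫ e) ≫ c) ≫ i by simp only [Category.assoc, reassoc_of% hf'],
      hc _ (h ≫ e) (𝟙 _), Category.id_comp, Category.assoc]
  haveI : IsIso H.hom := hGU H (e ≫ i) inferInstance hHs hHc hn hHP.2.2.2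
  haveI : Mono u := Over.mono_of_mono_left u
  refine TorusUnip.isIso_hom_of_mono_one u ?_
  rw [← hf, show f = 1 from subsingleton_hom_of_isIso _ _]
  exact MonObj.one_comp e

end Groth.Agent.AGFImage11
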