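import Groth.Agent.AGFImage11.CommTorus
import Groth.Agent.AGFQuot23.BorelFun
import Groth.Agent.UnipStruct.Group
import Groth.Agent.AlgGrpLib.ExactSeqBasics
import Groth.Agent.AlgGrpLib.AxesTorus
import Groth.Agent.S5255

/-!
# The radical of a group over an algebraically closed field
-/

set_option autoImplicit false
set_option backward.isDefEq.respectTransparency.types false
set_option linter.style.haveILetI false

universe u

open CategoryTheory CategoryTheory.Limits MonoidalCategory CartesianMonoidalCategory MonObj AlgebraicGeometry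

noncomputable section

namespace Groth.Agent.AGFImage11

open AlgGrpLib AlgGrpLib.LargestNormal

theorem isMultTypeFT_torus {S : Scheme.{u}} {T : Over S} [GrpObj T] (hT : Red.IsTorus T) : SGA3x.IsMultTypeFT T := by
  obtain ⟨S', f, h1, h2, h3, h4⟩ := hT
  exact ⟨S', f, h1, h2, h3, fun s' => by
    obtain ⟨U, hU, r, hr⟩ := h4 s'
    exact ⟨U, hU, Fin r → ℤ, inferInstance, Module.Finite.iff_addGroup_fg.1 inferInstance, hr⟩⟩

theorem connected_fibre {k : Type u} [Field k] (G : Over (Spec (CommRingCat.of k))) [GrpObj G] [ConnectedSpace G.left]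
    (s : (Spec (CommRingCat.of k) : Scheme.{u})) :
    ConnectedSpace ↥(pullback G.hom ((Spec (CommRingCat.of k)).fromSpecResidueField s)) := by
  haveI : GeometricallyConnected G.hom :=
    AbSchLib.geometricallyConnected_of_section G.hom η[G].left (Over.w η[G]) fun t => by
      have hsurj : Function.Surjective (G.hom.fiberι t) := fun a => by
        have ha : a ∈ Set.range (G.hom.fiberι t) := by
          rw [Scheme.Hom.range_fiberι]
          exact Subsingleton.elim (α := PrimeSpectrum k) _ _
        exact ha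
      let e := (G.hom.fiberι t).isEmbedding.toHomeomorphOfSurjective hsurj
      exact e.symm.surjective.connectedSpace e.symm.continuous
  infer_instance

variable {k : Type u} [Field k] [IsAlgClosed k]

/-- Tori are commutative. -/
theorem isCommMonObj_torus {T : Over (Spec (CommRingCat.of k))} [GrpObj T] (hT : Red.IsTorus T) : IsCommMonObj T := by
  haveI := TorusUnip.locallyOfFiniteType T hT
  haveI := TorusConnLib.connectedSpace T hT
  refine (isCommMonObj_iff_isMulCommutative T).2 fun X => ⟨⟨fun a b => ?_⟩⟩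
  have h := Groth.Agent.S5255.result T T (connected_fibre T) (𝟙 T) (isMultTypeFT_torus hT)
    (fun Y g n => ⟨g * n * g⁻¹, by simp⟩) X a b
  simpa using h

/-- Affine, smooth, connected and solvable. -/
abbrev SolvP : GrpProp k := fun E _ => IsAffine E.left ∧ Smooth E.hom ∧ ConnectedSpace E.left ∧ Red.IsSolvableGrp E

theorem extStable_solvP : ExtStable (SolvP (k := k)) := by
  intro N E Q _ _ _ _ _ _ _ _ _ i q _ _ _ _ hk hN hQ
  obtain ⟨hNa, hNs, hNc, hNt⟩ := hN
  obtain ⟨hQa, hQs, hQc, hQt⟩ := hQ
  obtain ⟨ha, hs, hc⟩ := Groth.Agent.S7982.result k N E Q i q hk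
  refine ⟨ha hNa hQa, hs hNs hQs, hc hNc hQc, ?_⟩
  haveI := hs hNs hQs
  let O := 𝟙_ (Over (Spec (CommRingCat.of k)))
  haveI : Group.IsSolvable (O ⟶ N) := by obtain ⟨n, hn⟩ := hNt; exact ⟨⟨n, hn _⟩⟩
  haveI : Group.IsSolvable (O ⟶ Q) := by obtain ⟨n, hn⟩ := hQt; exact ⟨⟨n, hn _⟩⟩
  haveI : Group.IsSolvable (O ⟶ E) := by
    refine solvable_of_ker_le_range (MonoidHom.mk' (fun x : O ⟶ N => x ≫ i) fun a b => MonObj.mul_comp a b i)
      (MonoidHom.mk' (fun x : O ⟶ E => x ≫ q) fun a b => MonObj.mul_comp a b q) fun x hx => ?_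
    obtain ⟨n, hn⟩ := exists_lift_kernel hk (show x ≫ q = 1 from hx)
    exact ⟨n, hn⟩
  exact AGFQuot23.isSolvableGrp_of_points E

theorem quotStable_solvP : QuotStable (SolvP (k := k)) := by
  intro E Q _ _ _ _ _ _ q _ _ _ hE
  obtain ⟨hEa, hEs, hEc, hEt⟩ := hE
  haveI := hEa; haveI := hEs; haveI := hEc
  haveI : IsAffine Q.left := AffineToProper.isAffine_of_flat_surjective q
  haveI : IsReduced E.left := AbSchLib.isReduced_of_smooth E.hom
  haveI : IsReduced Q.left := FlatMor12.isReduced_of_flat_surjective q.left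
  haveI : GeometricallyReduced Q.hom := AbVarLib.geometricallyReduced_of_perfectField Q.hom
  haveI : Smooth Q.hom := AbVarLib.smooth_of_geometricallyReduced Q
  haveI : ConnectedSpace Q.left := q.left.surjective.connectedSpace q.left.continuous
  let O := 𝟙_ (Over (Spec (CommRingCat.of k)))
  haveI : Group.IsSolvable (O ⟶ E) := by obtain ⟨n, hn⟩ := hEt; exact ⟨⟨n, hn _⟩⟩
  haveI : Group.IsSolvable (O ⟶ Q) :=
    solvable_of_surjective (f := MonoidHom.mk' (fun b : O ⟶ E => b ≫ q) fun b b' => MonObj.mul_comp b b' q)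
      fun m => AGFQuot23.exists_ratPoint_lift q m
  exact ⟨inferInstance, inferInstance, inferInstance, AGFQuot23.isSolvableGrp_of_points Q⟩

/-- The radical exists. -/
theorem exists_radical (G : Over (Spec (CommRingCat.of k))) [GrpObj G] [IsAffine G.left]
    [LocallyOfFiniteType G.hom] :
    ∃ H : Good (SolvP (k := k)) G, ∀ A : Good (SolvP (k := k)) G, ∃ f : A.obj ⟶ H.obj, f ≫ H.emb = A.emb := by
  haveI : QuasiCompact G.hom := (quasiCompact_iff_compactSpace G.hom).2 inferInstance
  refine exists_largest extStable_solvP quotStable_solvP ?_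
  have h1 : Smooth (𝟙_ (Over (Spec (CommRingCat.of k)))).hom := inferInstanceAs (Smooth (𝟙 (Spec (CommRingCat.of k))))
  have h2 : ConnectedSpace (𝟙_ (Over (Spec (CommRingCat.of k)))).left := inferInstanceAs (ConnectedSpace (PrimeSpectrum k))
  refine ⟨⟨𝟙_ _, inferInstance, η[G], inferInstance, ?_, h1, h2, ?_,
    ⟨inferInstanceAs (IsAffine (Spec (CommRingCat.of k))), h1, h2, 0, fun X => ?_⟩⟩⟩
  · exact SGA3xLib.isClosedImmersion_of_section G.hom η[G].left (Over.w η[G])
  · intro T g n
    refine ⟨n, ?_⟩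
    rw [MonObj.one_eq_one, MonObj.comp_one]
    simp
  · rw [derivedSeries_zero, eq_bot_iff]
    exact fun x _ => Subgroup.mem_bot.2 (toUnit_unique _ _)

/-- The largest normal subgroup with a property of a normal subgroup is normal in the whole group. -/
theorem isNormalHom_largest {P : GrpProp k} {G N : Over (Spec (CommRingCat.of k))} [GrpObj G] [GrpObj N]
    [Smooth G.hom] [QuasiCompact G.hom] (i : N ⟶ G) [IsMonHom i] [IsClosedImmersion i.left]
    (hN : AlgGrp.IsNormalHom i) (H : Good P N) (hmax : ∀ A : Good P N, ∃ f : A.obj ⟶ H.obj, f ≫ H.emb = A.emb) :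
    letI := H.grp
    AlgGrp.IsNormalHom (H.emb ≫ i) := by
  obtain ⟨H, gH, e, he, hec, hHs, hHc, hHn, hHP⟩ := H
  letI := gH
  dsimp only
  haveI := he; haveI := hec; haveI := hHs
  haveI : Mono i := Over.mono_of_mono_left i
  haveI : IsClosedImmersion (e ≫ i).left := by rw [Over.comp_left]; infer_instance
  haveI : QuasiCompact H.hom := by rw [← Over.w (e ≫ i)]; infer_instance
  refine Groth.Agent.S8000.result k k G H (e ≫ i) fun g h => ?_
  haveI : IsIso (Over.mk (Spec.map (CommRingCat.ofHom (algebraMap k k)))).hom := by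
    show IsIso (Spec.map (CommRingCat.ofHom (RingHom.id k)))
    rw [show CommRingCat.ofHom (RingHom.id k) = 𝟙 (CommRingCat.of k) from rfl, Spec.map_id]; infer_instance
  obtain ⟨c, hcm, hci, hc⟩ := exists_conjAut i hN g
  haveI := hcm; haveI := hci
  haveI : IsIso c.left := inferInstanceAs (IsIso ((Over.forget _).map c))
  haveI : IsClosedImmersion (e ≫ c).left := by rw [Over.comp_left]; infer_instance
  obtain ⟨f', hf'⟩ := hmax ⟨H, gH, e ≫ c, inferInstance, inferInstance, hHs, hHc, fun T t n => by
    obtain ⟨n', hn'⟩ := hHn T (t ≫ inv c) n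
    refine ⟨n', ?_⟩
    have h3 := congrArg (fun z => z ≫ c) hn'
    simp only [MonObj.mul_comp, GrpObj.inv_comp, Category.assoc, IsIso.inv_hom_id, Category.comp_id] at h3
    exact h3, hHP⟩
  replace hf' : f' ≫ e = e ≫ c := hf'
  refine ⟨h ≫ f', ?_⟩
  rw [show (h ≫ f') ≫ e ≫ i = ((h ≫ e) ≫ c) ≫ i by simp only [Category.assoc, reassoc_of% hf'],
    hc _ (h ≫ e) (𝟙 _), Category.id_comp, Category.assoc]

/-- A solvable reductive group is a torus. -/
theorem isTorus_of_solvable_reductive {H : Over (Spec (CommRingCat.of k))} [GrpObj H]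
    (hH : Red.IsReductiveOver k H) (hsolv : Red.IsSolvableGrp H) : Red.IsTorus H := by
  obtain ⟨ha, hs, hc, hU⟩ := hH
  haveI := ha; haveI := hs; haveI := hc
  obtain ⟨S, _, s, π, hS, hsm, hπm, hsp, hconj⟩ := HMTor29.MaxTorus.exists_complement hsolv
  haveI := hsm; haveI := hπm
  let U := UnipStruct.kerObj π
  let κ : U ⟶ H := UnipStruct.kerι π
  haveI : IsAffineHom S.hom := SGA3cLib.torus_isAffineHom hS
  haveI : IsClosedImmersion κ.left := UnipStruct.isClosedImmersion_kerι π
  haveI : Mono κ := Over.mono_of_mono_left κ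
  have hk := UnipStruct.isKernel_kerι π
  have hκπ : κ ≫ π = 1 := kernel_comp hk
  obtain ⟨r, hr⟩ := exists_lift_kernel hk (g := 𝟙 H * (π ≫ s)⁻¹) (by
    rw [MonObj.mul_comp, GrpObj.inv_comp, Category.id_comp, Category.assoc, hsp, Category.comp_id, mul_inv_cancel])
  have hκr : κ ≫ r = 𝟙 U := by
    rw [← cancel_mono κ, Category.assoc, hr, Category.id_comp, MonObj.comp_mul, GrpObj.comp_inv, Category.comp_id,
      reassoc_of% hκπ, MonObj.one_comp, inv_one, _root_.mul_one]
  haveI : Surjective r.left := ⟨fun x => ⟨κ.left x, by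
    rw [← Scheme.Hom.comp_apply, ← Over.comp_left, hκr]; rfl⟩⟩
  haveI : ConnectedSpace U.left := r.left.surjective.connectedSpace r.left.continuous
  haveI : IsReduced H.left := AbSchLib.isReduced_of_smooth H.hom
  haveI : IsAffine U.left := isAffine_of_isAffineHom κ.left
  haveI : _root_.IsReduced Γ(U.left, ⊤) := isReduced_of_injective r.left.appTop.hom
    (Function.LeftInverse.injective (g := κ.left.appTop.hom) fun x => by
      rw [← CommRingCat.comp_apply, ← Scheme.Hom.comp_appTop, ← Over.comp_left, hκr, Over.id_left, Scheme.Hom.id_appTop]; rfl)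
  haveI : IsReduced U.left := isReduced_of_isAffine_isReduced U.left
  haveI : LocallyOfFiniteType U.hom := by rw [← Over.w κ]; infer_instance
  haveI : GeometricallyReduced U.hom := AbVarLib.geometricallyReduced_of_perfectField U.hom
  haveI : Smooth U.hom := AbVarLib.smooth_of_geometricallyReduced U
  have hns : Red.HasNoSubtorus k U := fun T _ j _ _ hT => by
    obtain ⟨v, hv⟩ := hconj T hT (j ≫ κ)
    refine TorusUnip.isIso_hom_of_mono_one j ?_
    rw [← cancel_mono κ, hv, Category.assoc, reassoc_of% hκπ, MonObj.one_comp, MonObj.one_comp, MonObj.comp_one,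
      _root_.mul_one, mul_inv_cancel]
  haveI : IsIso U.hom := hU U κ inferInstance inferInstance inferInstance (ExactSeqBasics.isNormalHom_kernel π hk) hns
  have hr1 : 𝟙 H * (π ≫ s)⁻¹ = 1 := by
    rw [← hr, show r = 1 from subsingleton_hom_of_isIso _ _, MonObj.one_comp]
  have hps : π ≫ s = 𝟙 H := by rw [eq_comm, ← mul_inv_eq_one]; exact hr1
  haveI : IsIso π := ⟨s, hps, hsp⟩
  exact isTorus_of_iso π hS

/-- A normal torus of a normal subgroup lies in a torus which is normal in the whole group. -/
theorem isSemisimpleOver_of_normal {G N : Over (Spec (CommRingCat.of k))} [GrpObj G] [GrpObj N]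
    (hG : Red.IsSemisimpleOver k G) (i : N ⟶ G) [IsMonHom i] [IsClosedImmersion i.left] [Smooth N.hom]
    [ConnectedSpace N.left] (hN : AlgGrp.IsNormalHom i) : Red.IsSemisimpleOver k N := by
  obtain ⟨hR, hGT⟩ := hG
  refine ⟨isReductiveOver_of_normal hR i hN, fun T _ t _ htc htn hT => ?_⟩
  haveI := hR.1; haveI := hR.2.1; haveI := htc
  haveI : IsAffine N.left := isAffine_of_isAffineHom i.left
  haveI : IsAffine T.left := isAffine_of_isAffineHom t.left
  haveI := isCommMonObj_torus hT
  obtain ⟨H, hmax⟩ := exists_radical N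
  have hTs : Smooth T.hom := AxesTorus.smooth_of_isTorus hT
  have hTc : ConnectedSpace T.left := TorusConnLib.connectedSpace T hT
  obtain ⟨f, hf⟩ := hmax ⟨T, inferInstance, t, inferInstance, htc, hTs, hTc, htn,
    ⟨inferInstance, hTs, hTc, isSolvableGrp_of_comm T⟩⟩
  haveI : QuasiCompact G.hom := (quasiCompact_iff_compactSpace G.hom).2 inferInstance
  have hn := isNormalHom_largest i hN H hmax
  obtain ⟨H, gH, e, he, hec, hHs, hHc, hHn, hHP⟩ := H
  letI := gH
  dsimp only at hn hf f
  haveI := he; haveI := hec; haveI := hHs; haveI := hHc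
  haveI : IsClosedImmersion (e ≫ i).left := by rw [Over.comp_left]; infer_instance
  haveI : IsIso H.hom := hGT H (e ≫ i) inferInstance hn
    (isTorus_of_solvable_reductive (isReductiveOver_of_normal hR (e ≫ i) hn) hHP.2.2.2)
  haveI : Mono t := Over.mono_of_mono_left t
  refine TorusUnip.isIso_hom_of_mono_one t ?_
  rw [← hf, show f = 1 from subsingleton_hom_of_isIso _ _, MonObj.one_comp]

end Groth.Agent.AGFImage11
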